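import Groth.Agent.S1750
import Mathlib.Algebra.Module.Injective
import Mathlib.RingTheory.Localization.AtPrime.Basic

/-!
# A module over a Noetherian ring is injective if its localizations at the primes are
-/

set_option autoImplicit false

universe u

namespace K48.InjLocAlg

variable {A M : Type u} [CommRing A] [AddCommGroup M] [Module A M]

/-- The ideal of `s` such that `s φ` extends. -/
def extIdeal (a : Ideal A) (φ : a →ₗ[A] M) : Ideal A where
  carrier := {s | ∃ m : M, ∀ r : a, s • φ r = (r : A) • m}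
  zero_mem' := ⟨0, fun r => by rw [zero_smul, smul_zero]⟩
  add_mem' := by
    rintro s t ⟨m, hm⟩ ⟨n, hn⟩
    exact ⟨m + n, fun r => by rw [add_smul, smul_add, hm, hn]⟩
  smul_mem' := by
    rintro c s ⟨m, hm⟩
    exact ⟨c • m, fun r => by rw [smul_eq_mul, mul_smul, hm, smul_comm]⟩

lemma mem_extIdeal {a : Ideal A} {φ : a →ₗ[A] M} {s : A} :
    s ∈ extIdeal a φ ↔ ∃ m : M, ∀ r : a, s • φ r = (r : A) • m := Iff.rfl

/-- If the localization is injective over the base ring then some multiple of `φ` with multiplier in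
the multiplicative set extends. -/
lemma exists_mem_extIdeal [IsNoetherianRing A] (S : Submonoid A) {M' : Type u} [AddCommGroup M']
    [Module A M'] (l : M →ₗ[A] M') [IsLocalizedModule S l] (hM' : Module.Injective A M')
    (a : Ideal A) (φ : a →ₗ[A] M) : ∃ s ∈ S, s ∈ extIdeal a φ := by
  classical
  obtain ⟨g, hg⟩ := hM'.out a.subtype a.subtype_injective (l.comp φ)
  have hg' : ∀ r : a, l (φ r) = (r : A) • g 1 := by
    intro r
    have h := hg r
    rw [← map_smul, smul_eq_mul, mul_one]
    exact h.symm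
  obtain ⟨⟨m, t⟩, ht⟩ := IsLocalizedModule.surj S l (g 1)
  have ht' : (t : A) • g 1 = l m := ht
  have key : ∀ r : a, ∃ c : S, (c : A) • ((t : A) • φ r - (r : A) • m) = 0 := by
    intro r
    have h0 : l ((t : A) • φ r - (r : A) • m) = 0 := by
      rw [map_sub, map_smul, map_smul, hg', ← ht', smul_comm, sub_self]
    obtain ⟨c, hc⟩ := (IsLocalizedModule.eq_zero_iff S l).mp h0
    exact ⟨c, hc⟩
  obtain ⟨T, hT⟩ := (Module.finite_def (R := A) (M := a)).1 inferInstance
  choose c hc using key
  refine ⟨(∏ r ∈ T, (c r : A)) * t, S.mul_mem (S.prod_mem fun r _ => (c r).2) t.2,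
    (∏ r ∈ T, (c r : A)) • m, ?_⟩
  intro r
  have hr : r ∈ Submodule.span A (T : Set a) := hT ▸ Submodule.mem_top
  refine Submodule.span_induction (p := fun r _ => ((∏ r ∈ T, (c r : A)) * t) • φ r =
    (r : A) • (∏ r ∈ T, (c r : A)) • m) ?_ ?_ ?_ ?_ hr
  · intro y hy
    have h1 : (∏ r ∈ T, (c r : A)) • ((t : A) • φ y - (y : A) • m) = 0 := by
      rw [← Finset.prod_erase_mul T _ hy, mul_smul, hc y, smul_zero]
    rw [smul_sub, sub_eq_zero] at h1
    rw [mul_smul, h1, smul_comm]
  · rw [map_zero, smul_zero]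
    exact (zero_smul A _).symm
  · intro x y _ _ hx hy
    rw [map_add, smul_add, hx, hy]
    exact (add_smul _ _ _).symm
  · intro b x _ hx
    rw [map_smul, smul_comm, hx]
    exact smul_smul _ _ _

/-- Baer's criterion, checked locally. -/
theorem injective_of_forall (h : ∀ (a : Ideal A) (φ : a →ₗ[A] M) (p : Ideal A), p.IsPrime →
    ∃ s ∉ p, s ∈ extIdeal a φ) : Module.Injective A M := by
  refine Module.Baer.injective ?_
  intro a φ
  have h1 : extIdeal a φ = ⊤ := by
    by_contra hne
    obtain ⟨p, hp, hle⟩ := Ideal.exists_le_maximal _ hne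
    obtain ⟨s, hs, hs'⟩ := h a φ p hp.isPrime
    exact hs (hle hs')
  obtain ⟨m, hm⟩ := mem_extIdeal.mp ((Ideal.eq_top_iff_one _).mp h1)
  refine ⟨LinearMap.toSpanSingleton A M m, fun x hx => ?_⟩
  rw [LinearMap.toSpanSingleton_apply]
  have := hm ⟨x, hx⟩
  rw [one_smul] at this
  exact this.symm

end K48.InjLocAlg
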