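import Groth.Agent.Dual.H377.SecInj
import Groth.Agent.Ega1.SubSheaf
import Groth.Agent.S1750
import Groth.Agent.CycB.ModStalk
import Mathlib.AlgebraicGeometry.Noetherian
import Mathlib.AlgebraicGeometry.Morphisms.Flat

/-!
# Stalks of injective modules on locally Noetherian schemes
-/

set_option autoImplicit false

universe u

open CategoryTheory CategoryTheory.Limits AlgebraicGeometry TopologicalSpace

namespace K48.InjStalk

open Groth.Agent.Ega1.SubSheaf
open Groth.Agent.CycB.ModStalk (germ_smul)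

/-- Extension of a map defined on generators. -/
theorem exists_extension {R : Type u} [CommRing R] {P M Q : Type u} [AddCommGroup P] [Module R P]
    [AddCommGroup M] [Module R M] [AddCommGroup Q] [Module R Q] (hQ : Module.Injective R Q)
    (L : P →ₗ[R] M) (k : P →ₗ[R] Q) (h : LinearMap.ker L ≤ LinearMap.ker k) :
    ∃ j : M →ₗ[R] Q, ∀ x, j (L x) = k x := by
  let j₀ : LinearMap.range L →ₗ[R] Q :=
    ((LinearMap.ker L).liftQ k h).comp L.quotKerEquivRange.symm.toLinearMap
  obtain ⟨j, hj⟩ := hQ.out (LinearMap.range L).subtype (Submodule.injective_subtype _) j₀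
  refine ⟨j, fun x => ?_⟩
  have h1 := hj ⟨L x, x, rfl⟩
  have h2 : L.quotKerEquivRange.symm ⟨L x, x, rfl⟩ = Submodule.Quotient.mk x := by
    rw [LinearEquiv.symm_apply_eq]
    rfl
  calc j (L x) = j₀ ⟨L x, x, rfl⟩ := h1
    _ = (LinearMap.ker L).liftQ k h (L.quotKerEquivRange.symm ⟨L x, x, rfl⟩) := rfl
    _ = k x := by rw [h2]; rfl

variable {X : Scheme.{u}}

/-- Sections over `V ≤ U` of the structure sheaf as an algebra over the sections over `U`. -/
@[reducible]
noncomputable def resAlg {U V : X.Opens} (h : V ≤ U) : Algebra Γ(X, U) Γ(X, V) :=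
  (X.presheaf.map (homOfLE h).op).hom.toAlgebra

/-- Sections over `V ≤ U` of a module as a module over the sections over `U`. -/
@[reducible]
noncomputable def resMod (I : X.Modules) {U V : X.Opens} (h : V ≤ U) : Module Γ(X, U) Γ(I, V) :=
  Module.compHom _ (X.presheaf.map (homOfLE h).op).hom

lemma flat_res {U W : X.Opens} (hU : IsAffineOpen U) (hW : IsAffineOpen W) (h : W ≤ U) :
    (X.presheaf.map (homOfLE h).op).hom.Flat := by
  have := HasRingHomProperty.appLE (P := @Flat) (𝟙 X) inferInstance ⟨U, hU⟩ ⟨W, hW⟩ h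
  have e : (𝟙 X : X ⟶ X).appLE U W h = X.presheaf.map (homOfLE h).op := by
    simp [Scheme.Hom.appLE]
    rfl
  rwa [e] at this

/-- For affine opens `W ≤ U`, the sections over `W` of an injective module form an injective module
over `Γ(X, U)`. -/
theorem injective_sections (I : X.Modules) [Injective I] {U W : X.Opens} (hU : IsAffineOpen U)
    (hW : IsAffineOpen W) (h : W ≤ U) :
    @Module.Injective Γ(X, U) _ Γ(I, W) _ (resMod I h) := by
  let := resAlg h
  let := resMod I h
  have : IsScalarTower Γ(X, U) Γ(X, W) Γ(I, W) := ⟨fun a b c => by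
    change ((X.presheaf.map (homOfLE h).op).hom a * b) • c =
      (X.presheaf.map (homOfLE h).op).hom a • b • c
    rw [mul_smul]⟩
  have hf : Module.Flat Γ(X, U) Γ(X, W) := flat_res hU hW h
  exact Groth.Agent.S1750.injective_of_flat Γ(X, U) Γ(X, W) Γ(I, W)
    (Groth.Agent.Dual.H377.SecInj.injective_sections I hW)

lemma exists_germs (I : X.Modules) {n : ℕ} (x : X) (y : Fin n → I.presheaf.stalk x) (U : X.Opens)
    (hxU : x ∈ U) : ∃ (V : X.Opens) (_ : V ≤ U) (hx : x ∈ V) (s : Fin n → Γ(I, V)),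
      ∀ i, I.presheaf.germ V x hx (s i) = y i := by
  choose V hx s hs using fun i => I.presheaf.exists_germ_eq (y i)
  have hx' : x ∈ (Finset.univ.inf V : X.Opens) := by
    rw [← SetLike.mem_coe, Opens.coe_finset_inf]
    simpa using hx
  refine ⟨U ⊓ Finset.univ.inf V, inf_le_left, ⟨hxU, hx'⟩,
    fun i => res I (inf_le_right.trans (Finset.inf_le (Finset.mem_univ i))) (s i), fun i => ?_⟩
  rw [← hs i]
  exact I.presheaf.germ_res_apply _ x _ (s i)

lemma exists_zero (I : X.Modules) {m : ℕ} {x : X} {V : X.Opens} (hx : x ∈ V) (z : Fin m → Γ(I, V))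
    (hz : ∀ i, I.presheaf.germ V x hx (z i) = 0) :
    ∃ (V' : X.Opens) (h : V' ≤ V) (_ : x ∈ V'), ∀ i, res I h (z i) = 0 := by
  have key : ∀ i, ∃ (W : X.Opens) (h : W ≤ V), x ∈ W ∧ res I h (z i) = 0 := by
    intro i
    obtain ⟨W, hW, j, j', h⟩ := I.presheaf.germ_eq x hx hx (z i) 0 ((hz i).trans (map_zero _).symm)
    refine ⟨W, leOfHom j, hW, ?_⟩
    rw [map_zero] at h
    exact h
  choose W hW hxW h using key
  have hx' : x ∈ (Finset.univ.inf W : X.Opens) := by
    rw [← SetLike.mem_coe, Opens.coe_finset_inf]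
    simpa using hxW
  refine ⟨V ⊓ Finset.univ.inf W, inf_le_left, ⟨hx, hx'⟩, fun i => ?_⟩
  rw [← res_res I (hW i) (inf_le_right.trans (Finset.inf_le (Finset.mem_univ i))), h i, map_zero]

theorem injective_stalk [IsLocallyNoetherian X] (I : X.Modules) [Injective I] (x : X) :
    Module.Injective (X.presheaf.stalk x) (I.presheaf.stalk x) := by
  obtain ⟨U, hU, hxU, -⟩ := exists_isAffineOpen_mem_and_subset (x := x) (U := ⊤) trivial
  have hA : IsNoetherianRing Γ(X, U) := IsLocallyNoetherian.component_noetherian ⟨U, hU⟩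
  let : Algebra Γ(X, U) (X.presheaf.stalk x) := X.presheaf.algebra_section_stalk ⟨x, hxU⟩
  have hloc : IsLocalization.AtPrime (X.presheaf.stalk x) (hU.primeIdealOf ⟨x, hxU⟩).asIdeal :=
    hU.isLocalization_stalk ⟨x, hxU⟩
  have hR : IsNoetherianRing (X.presheaf.stalk x) := inferInstance
  refine Module.Baer.injective ?_
  intro 𝔞 φ
  obtain ⟨n, f, hf⟩ := Submodule.fg_iff_exists_fin_generating_family.1
    ((isNoetherianRing_iff_ideal_fg _).1 hA (𝔞.comap (algebraMap Γ(X, U) (X.presheaf.stalk x))))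
  have h𝔞 : Ideal.span (Set.range fun i => algebraMap Γ(X, U) (X.presheaf.stalk x) (f i)) = 𝔞 := by
    rw [← IsLocalization.map_under (hU.primeIdealOf ⟨x, hxU⟩).asIdeal.primeCompl
      (X.presheaf.stalk x) 𝔞, Ideal.under_def, ← hf]
    change _ = Ideal.map _ (Ideal.span (Set.range f))
    rw [Ideal.map_span, ← Set.range_comp]
    rfl
  have hfi : ∀ i, algebraMap Γ(X, U) (X.presheaf.stalk x) (f i) ∈ 𝔞 := fun i => by
    rw [← h𝔞]
    exact Ideal.subset_span ⟨i, rfl⟩
  obtain ⟨V, hVU, hxV, s, hs⟩ := exists_germs I x (fun i => φ ⟨_, hfi i⟩) U hxU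
  -- syzygies
  let L : (Fin n → Γ(X, U)) →ₗ[Γ(X, U)] Γ(X, U) := Fintype.linearCombination Γ(X, U) f
  obtain ⟨m, r, hr⟩ := Submodule.fg_iff_exists_fin_generating_family.1
    (IsNoetherian.noetherian (LinearMap.ker L))
  have hrk : ∀ k, ∑ i, r k i * f i = 0 := by
    intro k
    have : r k ∈ LinearMap.ker L := by
      rw [← hr]
      exact Submodule.subset_span ⟨k, rfl⟩
    simpa [L, Fintype.linearCombination_apply] using this
  obtain ⟨V', hV', hxV', hz⟩ := exists_zero I hxV
    (fun k : Fin m => ∑ i, (X.presheaf.map (homOfLE hVU).op (r k i)) • s i) (by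
      intro k
      rw [map_sum]
      have : ∀ i, I.presheaf.germ V x hxV ((X.presheaf.map (homOfLE hVU).op (r k i)) • s i) =
          φ (algebraMap Γ(X, U) (X.presheaf.stalk x) (r k i) • ⟨_, hfi i⟩) := by
        intro i
        rw [germ_smul, hs, map_smul]
        congr 1
        exact X.presheaf.germ_res_apply _ x _ _
      rw [Finset.sum_congr rfl (fun i _ => this i), ← map_sum]
      have h0 : ∑ i, algebraMap Γ(X, U) (X.presheaf.stalk x) (r k i) •
          (⟨_, hfi i⟩ : 𝔞) = 0 := by
        apply Subtype.ext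
        rw [AddSubmonoidClass.coe_finsetSum]
        simp only [SetLike.val_smul, smul_eq_mul, ← map_mul, ← map_sum, hrk k, map_zero,
          ZeroMemClass.coe_zero]
      rw [h0, map_zero])
  obtain ⟨g, hg, hxg⟩ := hU.exists_basicOpen_le ⟨x, hxV'⟩ hxU
  have hW := hU.basicOpen g
  have hWU : X.basicOpen g ≤ U := X.basicOpen_le g
  have hWV : X.basicOpen g ≤ V := hg.trans hV'
  let := resMod I hWU
  have hinj := injective_sections I hU hW hWU
  let k : (Fin n → Γ(X, U)) →ₗ[Γ(X, U)] Γ(I, X.basicOpen g) :=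
    Fintype.linearCombination Γ(X, U) (fun i => res I hWV (s i))
  have hker : LinearMap.ker L ≤ LinearMap.ker k := by
    rw [← hr, Submodule.span_le]
    rintro _ ⟨q, rfl⟩
    change k (r q) = 0
    rw [Fintype.linearCombination_apply]
    have h1 := congr_arg (res I hg) (hz q)
    rw [map_zero, res_res, map_sum] at h1
    rw [← h1]
    refine Finset.sum_congr rfl fun i _ => ?_
    rw [res_smul]
    refine Eq.trans (b := (X.presheaf.map (homOfLE hWU).op (r q i)) • res I hWV (s i)) rfl ?_
    congr 1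
    rw [← CommRingCat.comp_apply, ← Functor.map_comp]
    rfl
  obtain ⟨j, hj⟩ := exists_extension hinj L k hker
  have hj1 : ∀ i, f i • j 1 = res I hWV (s i) := by
    intro i
    have := hj (Pi.single i 1)
    simp only [L, k, Fintype.linearCombination_apply_single, one_smul] at this
    rw [← this, ← map_smul, smul_eq_mul, mul_one]
  refine ⟨LinearMap.toSpanSingleton _ _ (I.presheaf.germ _ x hxg (j 1)), fun a ha => ?_⟩
  rw [LinearMap.toSpanSingleton_apply]
  have key : ∀ i, algebraMap Γ(X, U) (X.presheaf.stalk x) (f i) •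
      I.presheaf.germ _ x hxg (j 1) = φ ⟨_, hfi i⟩ := by
    intro i
    rw [← hs i, ← I.presheaf.germ_res_apply (homOfLE hWV) x hxg (s i)]
    refine Eq.trans ?_ (congr_arg (I.presheaf.germ _ x hxg) (hj1 i))
    change _ = I.presheaf.germ _ x hxg ((X.presheaf.map (homOfLE hWU).op (f i)) • (j 1))
    rw [germ_smul]
    congr 1
    exact (X.presheaf.germ_res_apply _ x _ _).symm
  have ha' := ha
  rw [← h𝔞, Ideal.span, Submodule.mem_span_range_iff_exists_fun] at ha'
  obtain ⟨c, rfl⟩ := ha'
  have e : (⟨_, ha⟩ : 𝔞) = ∑ i, c i • (⟨_, hfi i⟩ : 𝔞) := by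
    apply Subtype.ext
    rw [AddSubmonoidClass.coe_finsetSum]
    rfl
  rw [e, map_sum, Finset.sum_smul]
  refine Finset.sum_congr rfl fun i _ => ?_
  rw [map_smul, ← key i, smul_smul, smul_eq_mul]

end K48.InjStalk
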