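import Groth.Agent.Coherent.K48.TildeInj
import Groth.Agent.Coherent.K48.InjLocAlg
import Groth.Agent.Coherent.K48.InjStalk
import Groth.Agent.CohqA.AffSec
import Groth.Agent.Divis.StalkMod

/-!
# Quasi-coherent modules on locally Noetherian schemes: injectivity can be checked on affine
sections and on stalks
-/

set_option autoImplicit false

universe u

open CategoryTheory CategoryTheory.Limits AlgebraicGeometry TopologicalSpace Opposite

namespace K48.QCohInjCrit

variable {X : Scheme.{u}}

/-- Injectivity passes to restrictions along open immersions. -/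
lemma injective_restrict {U : Scheme.{u}} (j : U ⟶ X) [IsOpenImmersion j] (I : X.Modules)
    (hI : Injective I) : Injective (I.restrict j) :=
  (Groth.Agent.PerfC.ExtZero.adj j).map_injective I hI

variable [IsLocallyNoetherian X]

/-- The restriction to an affine open on which the sections are injective is injective. -/
theorem injective_restrict_of_sections (F : X.Modules) (hF : Coh.IsQCoh F) {U : X.Opens}
    (hU : IsAffineOpen U) (h : Module.Injective Γ(X, U) Γ(F, U)) :
    Injective (F.restrict U.ι) := by
  have hA : IsNoetherianRing Γ(X, U) := IsLocallyNoetherian.component_noetherian ⟨U, hU⟩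
  have h1 : Module.Injective Γ(X, U) Γ(F.restrict hU.fromSpec, ⊤) :=
    Groth.Agent.Localalg.InjHull.injective_of_equiv h (Groth.Agent.CohqA.AffSec.secEquiv F hU)
  have h2 : Injective (F.restrict hU.fromSpec) :=
    TildeInj.injective_of_sections_Spec Γ(X, U) (F.restrict hU.fromSpec)
      (Groth.Agent.Fdesc.QCohStalk.restrict_isQCoh F hF _) h1
  exact Injective.of_iso (Groth.Agent.CohqA.AffSec.restrictIsoSpec F hU)
    (injective_restrict hU.isoSpec.hom _ h2)

/-- A quasi-coherent module with injective sections over an affine cover is injective. -/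
theorem injective_of_sections (F : X.Modules) (hF : Coh.IsQCoh F)
    (h : ∀ x : X, ∃ U : X.Opens, x ∈ U ∧ IsAffineOpen U ∧ Module.Injective Γ(X, U) Γ(F, U)) :
    Injective F := by
  refine InjLocal.injective_of_locally F fun x => ?_
  obtain ⟨U, hx, hU, h'⟩ := h x
  exact ⟨U, hx, injective_restrict_of_sections F hF hU h'⟩

/-- Sections over affine opens are injective if all stalks are. -/
theorem injective_sections_of_stalks (F : X.Modules) (hF : Coh.IsQCoh F)
    (h : ∀ x : X, Module.Injective (X.presheaf.stalk x) (F.presheaf.stalk x))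
    {U : X.Opens} (hU : IsAffineOpen U) : Module.Injective Γ(X, U) Γ(F, U) := by
  have hA : IsNoetherianRing Γ(X, U) := IsLocallyNoetherian.component_noetherian ⟨U, hU⟩
  refine InjLocAlg.injective_of_forall fun a φ p hp => ?_
  obtain ⟨x, hx⟩ : ∃ x : U, (hU.primeIdealOf x).asIdeal = p := by
    have h1 := hU.isoSpec.hom.homeomorph.surjective ⟨p, hp⟩
    obtain ⟨x, hx⟩ := h1
    exact ⟨x, congrArg PrimeSpectrum.asIdeal hx⟩
  subst hx
  refine Groth.Agent.Divis.StalkMod.stalk_elim F hF hU x.1 x.2 ?_
  intro i1 i2 i3 i4 l _ _ i5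
  have hfl : Module.Flat Γ(X, U) (X.presheaf.stalk x.1) :=
    IsLocalization.flat _ (hU.primeIdealOf ⟨x.1, x.2⟩).asIdeal.primeCompl
  have h2 : Module.Injective Γ(X, U) (F.presheaf.stalk x.1) :=
    Groth.Agent.S1750.injective_of_flat Γ(X, U) (X.presheaf.stalk x.1) _ (h x.1)
  exact InjLocAlg.exists_mem_extIdeal (hU.primeIdealOf ⟨x.1, x.2⟩).asIdeal.primeCompl l h2 a φ

/-- A quasi-coherent module with injective stalks is injective. -/
theorem injective_of_stalks (F : X.Modules) (hF : Coh.IsQCoh F)
    (h : ∀ x : X, Module.Injective (X.presheaf.stalk x) (F.presheaf.stalk x)) : Injective F :=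
  injective_of_sections F hF fun x => by
    obtain ⟨U, hU, hx, -⟩ := exists_isAffineOpen_mem_and_subset (x := x) (U := ⊤) trivial
    exact ⟨U, hx, hU, injective_sections_of_stalks F hF h hU⟩

end K48.QCohInjCrit
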