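import Groth.Agent.Coherent.K48.StalkExt
import Groth.Agent.Coherent.K48.ExtRestr
import Groth.Agent.Coherent.K48.QCohInjCrit
import Groth.Agent.CycB.ClosSheaf
import Groth.Agent.Divis.CartierBasic
import Groth.Agent.Dual.H337.CohR
import Groth.Agent.Sga2.PnHomAdj

/-!
# Stalks of Ext sheaves (second form), and the vanishing of `Ext¹` of coherent modules
-/

set_option autoImplicit false
universe u
open CategoryTheory CategoryTheory.Limits AlgebraicGeometry TopologicalSpace Opposite

namespace K48.ExtIdeal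

open Groth.Agent Groth.Agent.Dcoh.MonClosed K48.StalkExt

variable {X : Scheme.{u}}

/-- Stalks of the derived functors of the sheaf Hom, on the usual stalks. -/
theorem nonempty_stalk_rightDerived [IsLocallyNoetherian X] (x : X) (F G : X.Modules)
    (hF : Coh.IsCoh F) [HasInjectiveResolutions X.Modules] (i : ℕ) :
    Nonempty ((((homFunctor F).rightDerived i).obj G).presheaf.stalk x ≃ₗ[X.presheaf.stalk x]
      Abelian.Ext.{u} (ModuleCat.of (X.presheaf.stalk x) (F.presheaf.stalk x))
        (ModuleCat.of (X.presheaf.stalk x) (G.presheaf.stalk x)) i) := by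
  obtain ⟨e⟩ := StalkExt.nonempty_linearEquiv x (RingEquiv.refl (X.presheaf.stalk x)) F G hF i
    (M' := ModuleCat.of (X.presheaf.stalk x) (F.presheaf.stalk x))
    (N' := ModuleCat.of (X.presheaf.stalk x) (G.presheaf.stalk x)) (Iso.refl _) (Iso.refl _)
  exact ⟨e⟩

/-- Stalks of the Ext sheaves, on the usual stalks. -/
theorem nonempty_stalk_extSh [IsLocallyNoetherian X] (x : X) (F G : X.Modules) (hF : Coh.IsCoh F)
    [ModSite.HasSheafHom (O := X.sheaf) F] [HasInjectiveResolutions (ModSite.Mod X.sheaf)] (i : ℕ) :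
    Nonempty ((show X.Modules from
      (ModSite.extSh (O := X.sheaf) F i).obj G).presheaf.stalk x ≃ₗ[X.presheaf.stalk x]
      Abelian.Ext.{u} (ModuleCat.of (X.presheaf.stalk x) (F.presheaf.stalk x))
        (ModuleCat.of (X.presheaf.stalk x) (G.presheaf.stalk x)) i) := by
  have := Groth.Agent.Dcoh.DerSch.hasInjectiveResolutions X
  obtain ⟨e⟩ := nonempty_stalk_rightDerived x F G hF i
  exact ⟨((St x).mapIso (ExtRestr.extShIso F i G)).toLinearEquiv.trans e⟩

/-- An ideal of the ring of sections over an affine open extends to an ideal sheaf. -/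
theorem exists_ideal [IsLocallyNoetherian X] {U : X.Opens} (hU : IsAffineOpen U)
    (a : Ideal Γ(X, U)) : ∃ I : X.IdealSheafData, I.ideal ⟨U, hU⟩ = a := by
  let φ : Γ(X, U) ⟶ CommRingCat.of (Γ(X, U) ⧸ a) := CommRingCat.ofHom (Ideal.Quotient.mk a)
  let f : Spec (CommRingCat.of (Γ(X, U) ⧸ a)) ⟶ X := Spec.map φ ≫ hU.fromSpec
  have hf : f ⁻¹ᵁ U = ⊤ := by
    change (Spec.map φ) ⁻¹ᵁ (hU.fromSpec ⁻¹ᵁ U) = ⊤
    rw [hU.fromSpec_preimage_self]; rfl
  have key : f.appLE U ⊤ hf.ge = φ ≫ (Scheme.ΓSpecIso _).inv := by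
    rw [Scheme.ΓSpecIso_inv_naturality, Scheme.Hom.comp_appLE, hU.fromSpec_app_self,
      Category.assoc, Scheme.Hom.map_appLE]
    congr 1
  refine ⟨f.ker, ?_⟩
  rw [Scheme.Hom.ker_apply]
  ext r
  rw [RingHom.mem_ker]
  have h0 : IsIso (homOfLE hf.ge) := by
    rw [show homOfLE hf.ge = eqToHom hf.symm from Subsingleton.elim _ _]
    infer_instance
  have h1 : (f.app U).hom r = 0 ↔ (f.appLE U ⊤ hf.ge).hom r = 0 := by
    rw [Scheme.Hom.appLE, CommRingCat.hom_comp, RingHom.comp_apply]
    exact (map_eq_zero_iff _ (ConcreteCategory.bijective_of_isIso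
      ((Spec _).presheaf.map (homOfLE hf.ge).op)).1).symm
  rw [h1, key, CommRingCat.hom_comp, RingHom.comp_apply]
  exact (map_eq_zero_iff _ (ConcreteCategory.bijective_of_isIso (Scheme.ΓSpecIso _).inv).1).trans
    Ideal.Quotient.eq_zero_iff_mem

section Algebra

variable {R : Type u} [CommRing R]

/-- Extension of linear maps from an ideal by the vanishing of `Ext¹`. -/
theorem exists_extend {Q N : Type u} [AddCommGroup Q] [Module R Q] [AddCommGroup N] [Module R N]
    (p : R →ₗ[R] Q) (hp : Function.Surjective p) (J : Ideal R) (hJ : LinearMap.ker p = J)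
    (h : Subsingleton (Abelian.Ext.{u} (ModuleCat.of R Q) (ModuleCat.of R N) 1)) (φ : J →ₗ[R] N) :
    ∃ ψ : R →ₗ[R] N, ∀ (a : R) (ha : a ∈ J), ψ a = φ ⟨a, ha⟩ := by
  let S : ShortComplex (ModuleCat.{u} R) :=
    ShortComplex.mk (ModuleCat.ofHom J.subtype) (ModuleCat.ofHom p) (by
      ext a
      exact (hJ.ge a.2 : (a : R) ∈ LinearMap.ker p))
  have hS : S.ShortExact := by
    have hm : Mono S.f := (ModuleCat.mono_iff_injective _).2 J.subtype_injective
    have he : Epi S.g := (ModuleCat.epi_iff_surjective _).2 hp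
    refine ShortComplex.ShortExact.mk' ?_ hm he
    rw [ShortComplex.ShortExact.moduleCat_exact_iff_function_exact]
    intro a
    exact ⟨fun ha => ⟨⟨a, hJ.le ha⟩, rfl⟩, by rintro ⟨b, rfl⟩; exact (hJ.ge b.2)⟩
  obtain ⟨y, hy⟩ := Abelian.Ext.contravariant_sequence_exact₁ hS (ModuleCat.of R N)
    (Abelian.Ext.mk₀ (ModuleCat.ofHom φ)) (add_zero 1) (Subsingleton.elim _ _)
  rw [← Abelian.Ext.mk₀_homEquiv₀_apply y, Abelian.Ext.mk₀_comp_mk₀] at hy
  have h2 := (Abelian.Ext.homEquiv₀ (X := S.X₁) (Y := ModuleCat.of R N)).symm.injective hy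
  refine ⟨(Abelian.Ext.homEquiv₀ y).hom, fun a ha => ?_⟩
  exact congrArg (fun f => f.hom ⟨a, ha⟩) h2

end Algebra

variable [IsLocallyNoetherian X]

omit [IsLocallyNoetherian X] in
lemma map_comap_germ {U : X.Opens} (hU : IsAffineOpen U) {x : X} (hx : x ∈ U)
    (I : Ideal (X.presheaf.stalk x)) :
    (I.comap (X.presheaf.germ U x hx).hom).map (X.presheaf.germ U x hx).hom = I := by
  let _ : Algebra Γ(X, U) (X.presheaf.stalk x) := (X.presheaf.germ U x hx).hom.toAlgebra
  have h : IsLocalization.AtPrime (X.presheaf.stalk x) (hU.primeIdealOf ⟨x, hx⟩).asIdeal :=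
    hU.isLocalization_stalk ⟨x, hx⟩
  exact IsLocalization.map_under (hU.primeIdealOf ⟨x, hx⟩).asIdeal.primeCompl _ I

/-- Every ideal of a local ring is the kernel of a surjection onto the stalk of a coherent
module. -/
theorem exists_coh (x : X) (I : Ideal (X.presheaf.stalk x)) :
    ∃ (G : X.Modules) (p : X.presheaf.stalk x →ₗ[X.presheaf.stalk x] G.presheaf.stalk x),
      Coh.IsCoh G ∧ Function.Surjective p ∧ LinearMap.ker p = I := by
  obtain ⟨U, hU, hx, -⟩ := exists_isAffineOpen_mem_and_subset (U := (⊤ : X.Opens)) (x := x) trivial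
  obtain ⟨D, hD⟩ := exists_ideal hU (I.comap (X.presheaf.germ U x hx).hom)
  refine ⟨(Coh.push D.subschemeι).obj (Coh.structureModule D.subscheme),
    CycB.ClosSheaf.gen D.subschemeι x, Dual.H337.CohR.isCoh_push D.subschemeι,
    CycB.ClosSheaf.gen_surjective D.subschemeι x, ?_⟩
  rw [CycB.ClosSheaf.ker_gen D.subschemeι x, Scheme.IdealSheafData.ker_subschemeι]
  have h1 : IntMult.stalkIdeal D x = (D.ideal ⟨U, hU⟩).map (X.presheaf.germ U x hx).hom :=
    Divis.CartierBasic.stalkIdeal_eq D ⟨U, hU⟩ hx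
  rw [h1, hD]
  exact map_comap_germ hU hx I

/-- A quasi-coherent module is injective if the first derived functors of the sheaf Hom of all
coherent modules vanish on it. -/
theorem injective_of_forall [HasInjectiveResolutions X.Modules] (F : X.Modules) (hF : Coh.IsQCoh F)
    (h : ∀ G : X.Modules, Coh.IsCoh G → IsZero (((homFunctor G).rightDerived 1).obj F)) :
    Injective F := by
  refine QCohInjCrit.injective_of_stalks F hF fun x => Module.Baer.injective fun I φ => ?_
  obtain ⟨G, p, hG, hp, hI⟩ := exists_coh x I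
  refine exists_extend p hp I hI ?_ φ
  obtain ⟨e⟩ := nonempty_stalk_rightDerived x G F hG 1
  have h1 : Subsingleton ((((homFunctor G).rightDerived 1).obj F).presheaf.stalk x) := by
    have h2 := ((St x).map_isZero (h G hG))
    exact ModuleCat.subsingleton_of_isZero h2
  exact e.symm.toEquiv.subsingleton

end K48.ExtIdeal
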