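import Groth.Agent.Coherent.K48.ZornInj2
import Groth.Agent.PerfC.ExtZero2
import Groth.Agent.Ega1.SubSheaf
import Groth.Agent.S0484

/-!
# Injectivity of `O_X`-modules is local; extension of morphisms from submodules of `j_! G`
-/

set_option autoImplicit false

universe u

open CategoryTheory CategoryTheory.Limits AlgebraicGeometry

namespace K48.InjLocal

open Groth.Agent.PerfC.ExtZero Groth.Agent.Ega1.SubSheaf

variable {X Y : Scheme.{u}} (j : Y ⟶ X) [IsOpenImmersion j]

/-- `O_X`-modules form a Grothendieck abelian category. -/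
theorem isGrothendieckAbelian (X : Scheme.{u}) : IsGrothendieckAbelian.{u} X.Modules :=
  Groth.Agent.S0484.result (Opens.grothendieckTopology X) X.ringCatSheaf

lemma SuppIn.of_mono {U : X.Opens} {K G : X.Modules} (m : K ⟶ G) [Mono m] (h : SuppIn U G) :
    SuppIn U K := by
  intro V s x hx hxU
  obtain ⟨W, hW, hxW, e⟩ := h V (m.app V s) x hx hxU
  refine ⟨W, hW, hxW, (mono_iff_injective m).1 inferInstance W ?_⟩
  rw [← app_map, e, map_zero]

/-- On modules supported in the image of `j` the counit `j_! (M|_Y) ⟶ M` is an isomorphism. -/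
lemma isIso_counitApp_of_suppIn {M : X.Modules} (h : SuppIn j.opensRange M) :
    IsIso (counitApp j M) := by
  have : IsIso (inclT j M) := by
    rw [Scheme.Modules.Hom.isIso_iff_isIso_app]
    intro V
    rw [ConcreteCategory.isIso_iff_bijective]
    exact ⟨incl_app_injective _ M V, fun s => exists_incl_app _ (h V s)⟩
  unfold counitApp
  infer_instance

/-- Morphisms from submodules of a module `G` supported in the image of `j` to a module `F` whose
restriction along `j` is injective extend to `G`. -/
lemma exists_extension_of_suppIn {F : X.Modules} (hF : Injective ((Scheme.Modules.restrictFunctor j).obj F))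
    {K G : X.Modules} (hG : SuppIn j.opensRange G) (m : K ⟶ G) [Mono m] (φ : K ⟶ F) :
    ∃ ψ : G ⟶ F, m ≫ ψ = φ := by
  have h1 := isIso_counitApp_of_suppIn j hG
  have h2 := isIso_counitApp_of_suppIn j (SuppIn.of_mono m hG)
  let ψ₀ : (Scheme.Modules.restrictFunctor j).obj G ⟶ (Scheme.Modules.restrictFunctor j).obj F :=
    Injective.factorThru ((Scheme.Modules.restrictFunctor j).map φ)
      ((Scheme.Modules.restrictFunctor j).map m)
  have hψ₀ : (Scheme.Modules.restrictFunctor j).map m ≫ ψ₀ =
      (Scheme.Modules.restrictFunctor j).map φ := Injective.comp_factorThru _ _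
  refine ⟨inv (counitApp j G) ≫ (jShriek j).map ψ₀ ≫ counitApp j F, ?_⟩
  have e : m ≫ inv (counitApp j G) = inv (counitApp j K) ≫
      (jShriek j).map ((Scheme.Modules.restrictFunctor j).map m) := by
    rw [IsIso.comp_inv_eq, Category.assoc, counitApp_naturality, IsIso.inv_hom_id_assoc]
  rw [reassoc_of% e, ← (jShriek j).map_comp_assoc, hψ₀, counitApp_naturality,
    IsIso.inv_hom_id_assoc]

/-- A morphism of modules is an isomorphism if it is one locally. -/
lemma isIso_of_cover {M N : X.Modules} (f : M ⟶ N) (U : X → X.Opens) (hU : ∀ x, x ∈ U x)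
    (h : ∀ x, IsIso ((Scheme.Modules.restrictFunctor (U x).ι).map f)) : IsIso f := by
  have key : ∀ x (V : X.Opens), V ≤ U x → Function.Bijective (f.app V) := by
    intro x V hV
    have := (Scheme.Modules.Hom.isIso_iff_isIso_app
      (φ := (Scheme.Modules.restrictFunctor (U x).ι).map f)).1 (h x) ((U x).ι ⁻¹ᵁ V)
    rw [ConcreteCategory.isIso_iff_bijective] at this
    have e : (U x).ι ''ᵁ (U x).ι ⁻¹ᵁ V = V := by
      rw [Scheme.Hom.image_preimage_eq_opensRange_inf, Scheme.Opens.opensRange_ι]
      exact inf_eq_right.2 hV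
    change Function.Bijective (f.app ((U x).ι ''ᵁ (U x).ι ⁻¹ᵁ V)) at this
    rwa [e] at this
  rw [Scheme.Modules.Hom.isIso_iff_isIso_app]
  intro V
  rw [ConcreteCategory.isIso_iff_bijective]
  constructor
  · intro s t hst
    refine section_ext M s t fun x hx => ⟨V ⊓ U x, inf_le_left, ⟨hx, hU x⟩, ?_⟩
    apply (key x _ inf_le_right).1
    rw [app_res, app_res, hst]
  · intro t
    choose s hs using fun x : V => (key x.1 (V ⊓ U x.1) inf_le_right).2 (res N inf_le_left t)
    obtain ⟨s', hs'⟩ := exists_glue M (U := V) (fun x : V => V ⊓ U x.1) (fun _ => inf_le_left)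
      (fun x hx => ⟨⟨x, hx⟩, hx, hU x⟩) s (fun x y => by
        apply (key x.1 _ (inf_le_left.trans inf_le_right)).1
        rw [app_res, app_res, hs, hs, res_res, res_res])
    refine ⟨s', section_ext N _ _ fun x hx => ⟨V ⊓ U x, inf_le_left, ⟨hx, hU x⟩, ?_⟩⟩
    rw [← app_res, hs' ⟨x, hx⟩, hs ⟨x, hx⟩]

/-- An `O_X`-module which is locally injective is injective. -/
theorem injective_of_locally (F : X.Modules)
    (hF : ∀ x : X, ∃ U : X.Opens, x ∈ U ∧
      Injective ((Scheme.Modules.restrictFunctor U.ι).obj F)) : Injective F := by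
  have := isGrothendieckAbelian X
  choose U hxU hU using hF
  refine ZornInj.injective_of_step.{u} F fun N => ZornInj.step_of_exists fun {A} p _ hp => ?_
  have h : ∃ x, ¬ IsIso ((Scheme.Modules.restrictFunctor (U x).ι).map p) := by
    by_contra h
    push Not at h
    exact hp (isIso_of_cover p U hxU h)
  obtain ⟨x, hx⟩ := h
  refine ⟨(jShriek (U x).ι).obj ((Scheme.Modules.restrictFunctor (U x).ι).obj N),
    counitApp (U x).ι N, fun t ht => hx ?_, fun φ => ?_⟩
  · have h1 : IsIso ((Scheme.Modules.restrictFunctor (U x).ι).map (counitApp (U x).ι N)) := by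
      rw [restrict_counitApp]
      infer_instance
    have h2 : Epi ((Scheme.Modules.restrictFunctor (U x).ι).map p) := by
      rw [← ht, Functor.map_comp] at h1
      exact epi_of_epi ((Scheme.Modules.restrictFunctor (U x).ι).map t) _
    exact isIso_of_mono_of_epi _
  · exact exists_extension_of_suppIn (U x).ι (hU x) (suppIn_jShriek _ _) _ φ

end K48.InjLocal
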