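import Groth.Agent.Coherent.K48.ZornInj2
import Mathlib.CategoryTheory.Subobject.NoetherianObject
import Mathlib.CategoryTheory.Limits.Constructions.Filtered

/-!
# Noetherian objects in Grothendieck abelian categories

* `exists_factor`: a morphism from a Noetherian object to a filtered colimit with monomorphic
  transition maps factors through a stage;
* `exists_factor_coproduct`: a morphism from a Noetherian object to a coproduct factors through a
  finite subcoproduct;
* `injective_coproduct`: coproducts of injectives are injective if there is a detecting family of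
  Noetherian objects.
-/

set_option autoImplicit false

universe w v u

namespace K48.NoethInj

open CategoryTheory Category Limits ZeroObject

variable {C : Type u} [Category.{v} C] [Abelian C] [IsGrothendieckAbelian.{w} C]

attribute [local instance] IsFiltered.isConnected

/-- A filtered union of subobjects of a Noetherian object is attained. -/
lemma exists_isIso_of_functor_from_monoOver {X : C} [IsNoetherianObject X] {J : Type w}
    [SmallCategory J] [IsFiltered J] (F : J ⥤ MonoOver X)
    (c : Cocone (F ⋙ MonoOver.forget _ ⋙ Over.forget _)) (hc : IsColimit c)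
    (f : c.pt ⟶ X) (hf : ∀ (j : J), c.ι.app j ≫ f = (F.obj j).obj.hom) (h : Epi f) :
    ∃ (j : J), IsIso (F.obj j).obj.hom := by
  have := IsGrothendieckAbelian.mono_of_isColimit_monoOver F hc f hf
  rw [Subobject.epi_iff_mk_eq_top f,
    IsGrothendieckAbelian.subobjectMk_of_isColimit_eq_iSup F hc f hf] at h
  let s (j : J) : Subobject X := Subobject.mk (F.obj j).obj.hom
  obtain ⟨_, ⟨j₀, rfl⟩, hj₀⟩ := WellFounded.has_min
    (r := fun a b : Subobject X => b < a) wellFounded_gt (Set.range s)
    ⟨_, (IsFiltered.nonempty (C := J)).some, rfl⟩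
  refine ⟨j₀, ?_⟩
  rw [Subobject.isIso_iff_mk_eq_top, ← top_le_iff, ← h, iSup_le_iff]
  intro j
  have h1 : s j₀ ≤ s (IsFiltered.max j₀ j) :=
    MonoOver.subobjectMk_le_mk_of_hom (F.map (IsFiltered.leftToMax j₀ j))
  have h2 : s j ≤ s (IsFiltered.max j₀ j) :=
    MonoOver.subobjectMk_le_mk_of_hom (F.map (IsFiltered.rightToMax j₀ j))
  have h3 : s j₀ = s (IsFiltered.max j₀ j) := by
    by_contra h3
    exact hj₀ _ ⟨_, rfl⟩ (lt_of_le_of_ne h1 h3)
  change s j ≤ s j₀
  rw [h3]
  exact h2

set_option backward.defeqAttrib.useBackward true in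
set_option backward.isDefEq.respectTransparency false in
open IsGrothendieckAbelian.IsPresentable.surjectivity in
/-- A morphism from a Noetherian object to a filtered colimit of monomorphisms factors through some
stage. -/
lemma exists_factor {J : Type w} [SmallCategory J] [IsFiltered J] {Y : J ⥤ C} {c : Cocone Y}
    (hc : IsColimit c) [∀ (j j' : J) (φ : j ⟶ j'), Mono (Y.map φ)] {X : C} [IsNoetherianObject X]
    (z : X ⟶ c.pt) : ∃ (j₀ : J) (y : X ⟶ Y.obj j₀), z = y ≫ c.ι.app j₀ := by
  have := hc.mono_ι_app_of_isFiltered
  have := NatTrans.mono_of_mono_app c.ι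
  obtain ⟨j, _⟩ := exists_isIso_of_functor_from_monoOver (F z) _
    (colimit.isColimit _) (f z) (hf z) (epi_f hc z)
  refine ⟨j, inv ((F z).obj j).obj.hom ≫ (pullback.fst c.ι _).app j, ?_⟩
  dsimp
  rw [Category.assoc, IsIso.eq_inv_comp, ← NatTrans.comp_app, pullback.condition,
    NatTrans.comp_app, Functor.const_map_app]

open CoproductsFromFiniteFiltered

set_option backward.isDefEq.respectTransparency false in
lemma mono_liftToFinset_map {ι : Type w} (I : Discrete ι ⥤ C) (S T : Finset (Discrete ι))
    (h : S ⟶ T) : Mono ((liftToFinsetObj I).map h) := by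
  classical
  have : HasFiniteBiproducts C := Abelian.hasFiniteBiproducts
  let r : (liftToFinsetObj I).obj T ⟶ (liftToFinsetObj I).obj S :=
    Sigma.desc fun y => if hy : y.1 ∈ S then Sigma.ι (fun x : S => I.obj x.1) ⟨y.1, hy⟩ else 0
  have : (liftToFinsetObj I).map h ≫ r = 𝟙 _ := by
    dsimp [liftToFinsetObj]
    apply Sigma.hom_ext
    intro y
    simp [r]
  exact mono_of_mono_fac this

/-- A morphism from a Noetherian object to a coproduct factors through a finite subcoproduct. -/
lemma exists_factor_coproduct {ι : Type w} (I : ι → C) {X : C} [IsNoetherianObject X]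
    (z : X ⟶ ∐ I) : ∃ (S : Finset (Discrete ι)) (y : X ⟶ ∐ fun x : S => I x.1.as),
      z = y ≫ Sigma.desc fun s => Sigma.ι I s.1.as := by
  classical
  have : ∀ (S T : Finset (Discrete ι)) (h : S ⟶ T),
      Mono ((liftToFinsetObj (Discrete.functor I)).map h) :=
    fun S T h => mono_liftToFinset_map (Discrete.functor I) S T h
  exact exists_factor (isColimitFiniteSubproductsCocone I) z

/-- In a Grothendieck abelian category with a detecting family of Noetherian objects, coproducts of
injective objects are injective. -/
theorem injective_coproduct {κ : Type*} (G : κ → C) [∀ k, IsNoetherianObject (G k)]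
    (hG : ∀ {A X : C} (p : A ⟶ X) [Mono p], (∀ (i : κ) (g : G i ⟶ X), ∃ t, t ≫ p = g) → IsIso p)
    {ι : Type w} (I : ι → C) (hI : ∀ i, Injective (I i)) : Injective (∐ I) := by
  refine ZornInj.injective_of_baer.{w} G hG _ fun i K m _ φ => ?_
  have : IsNoetherianObject K := isNoetherianObject_of_mono m
  obtain ⟨S, y, rfl⟩ := exists_factor_coproduct I φ
  have : HasFiniteBiproducts C := Abelian.hasFiniteBiproducts
  have h1 : Injective (∐ fun x : S => I x.1.as) := by
    let e := (biproduct.isoCoproduct (fun x : S => I x.1.as)).symm ≪≫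
      biproduct.isoProduct (fun x : S => I x.1.as)
    exact Injective.of_iso e.symm inferInstance
  exact ⟨Injective.factorThru y m ≫ Sigma.desc fun s => Sigma.ι I s.1.as, by
    rw [Injective.comp_factorThru_assoc]⟩

end K48.NoethInj
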