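import Groth.Agent.Coherent.K48.NoethOX
import Groth.Agent.Coherent.K48.NoethInj
import Groth.Agent.PerfA.OUTF
import Groth.Agent.PerfB.ModExact
import Groth.Prelude.Def_CxOX

/-!
# `j_! O_U` is a Noetherian object, for `U` a Noetherian open; coproducts of injective modules on a
locally Noetherian scheme are injective
-/

set_option autoImplicit false

universe u

open CategoryTheory CategoryTheory.Limits AlgebraicGeometry TopologicalSpace

namespace K48.NoethShriek

open Groth.Agent.Ega1.SubSheaf Groth.Agent.PerfC.ExtZero K48.InjLocal

variable {U X : Scheme.{u}} (j : U ⟶ X) [IsOpenImmersion j]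

/-- A morphism between modules supported in the image of `j` is an isomorphism if its restriction
is. -/
lemma isIso_of_suppIn {A B : X.Modules} (φ : A ⟶ B) (hA : SuppIn j.opensRange A)
    (hB : SuppIn j.opensRange B) (h : IsIso ((Scheme.Modules.restrictFunctor j).map φ)) :
    IsIso φ := by
  have hA' := isIso_counitApp_of_suppIn j hA
  have hB' := isIso_counitApp_of_suppIn j hB
  have e : φ = inv (counitApp j A) ≫
      (jShriek j).map ((Scheme.Modules.restrictFunctor j).map φ) ≫ counitApp j B := by
    rw [counitApp_naturality, IsIso.inv_hom_id_assoc]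
  rw [e]
  infer_instance

/-- Extension by zero of a Noetherian object is a Noetherian object. -/
theorem isNoetherianObject_jShriek (F : U.Modules) [IsNoetherianObject F] :
    IsNoetherianObject ((jShriek j).obj F) := by
  have hm : ∀ P : Subobject ((jShriek j).obj F), Mono ((Scheme.Modules.restrictFunctor j).map P.arrow ≫
      unitInvApp j F) := fun P => mono_comp _ _
  refine Groth.Agent.Sga5.NoethObj.noeth_of_strictMono
    (fun P : Subobject ((jShriek j).obj F) =>
      Subobject.mk ((Scheme.Modules.restrictFunctor j).map P.arrow ≫ unitInvApp j F)) ?_ ?_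
  · intro P Q h
    refine Subobject.mk_le_mk_of_comm
      ((Scheme.Modules.restrictFunctor j).map (Subobject.ofLE P Q h)) ?_
    rw [← Functor.map_comp_assoc, Subobject.ofLE_arrow]
  · intro P Q h e
    have h1 : IsIso ((Scheme.Modules.restrictFunctor j).map (Subobject.ofLE P Q h)) := by
      have h2 : (Scheme.Modules.restrictFunctor j).map (Subobject.ofLE P Q h) =
          (Subobject.isoOfMkEqMk _ _ e).hom := by
        rw [← cancel_mono ((Scheme.Modules.restrictFunctor j).map Q.arrow ≫ unitInvApp j F)]
        rw [← Functor.map_comp_assoc, Subobject.ofLE_arrow]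
        simp
      rw [h2]
      infer_instance
    have h3 := isIso_of_suppIn j (Subobject.ofLE P Q h)
      (SuppIn.of_mono P.arrow (suppIn_jShriek j F)) (SuppIn.of_mono Q.arrow (suppIn_jShriek j F)) h1
    refine le_antisymm h (Subobject.le_of_comm (inv (Subobject.ofLE P Q h)) ?_)
    rw [IsIso.inv_comp_eq, Subobject.ofLE_arrow]

/-- `j_! O_U` in the two descriptions. -/
noncomputable def extZeroUnitIso : CxOX.extZeroUnit j ≅ (jShriek j).obj (Coh.structureModule U) :=
  ((CxOX.extZeroAdj j).leftAdjointUniq (adj j)).app _

variable [IsLocallyNoetherian X] [CompactSpace U]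

include j in
lemma isNoetherian_of_openImmersion : IsNoetherian U := by
  have := isLocallyNoetherian_of_isOpenImmersion j
  constructor

theorem isNoetherianObject_jShriek_unit :
    IsNoetherianObject ((jShriek j).obj (Coh.structureModule U)) := by
  have := isNoetherian_of_openImmersion j
  have := NoethOX.isNoetherianObject_structureModule U
  exact isNoetherianObject_jShriek j _

theorem isNoetherianObject_extZeroUnit : IsNoetherianObject (CxOX.extZeroUnit j) := by
  have := isNoetherianObject_jShriek_unit j
  exact Groth.Agent.Sga5.NoethObj.isNoetherianObject_of_iso (extZeroUnitIso j).symm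

section OU

open Groth.Agent.PerfA.ExtZero

variable (X)

/-- The objects `j_! O_U`, for `U` affine, detect isomorphisms among monomorphisms. -/
lemma isIso_of_affine {X : Scheme.{u}} {A N : X.Modules} (p : A ⟶ N) [Mono p]
    (h : ∀ (U : X.affineOpens) (g : OU U.1 ⟶ N), ∃ t, t ≫ p = g) : IsIso p := by
  have : Epi p := by
    refine Groth.Agent.PerfB.ModExact.epi_of_locally_surjective p fun U y x hx => ?_
    obtain ⟨V, hV, hxV, hVU⟩ := exists_isAffineOpen_mem_and_subset hx
    obtain ⟨t, ht⟩ := h ⟨V, hV⟩ (desc (N.presheaf.map (homOfLE hVU).op y))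
    refine ⟨V, hVU, hxV, t.app V (gen V), ?_⟩
    have := congr($(congr_arg (fun z : OU V ⟶ N => z.app V) ht) (gen V))
    rw [desc_app_gen] at this
    exact this
  exact isIso_of_mono_of_epi p

/-- On a locally Noetherian scheme `j_! O_U` is a Noetherian object for `U` quasi-compact. -/
theorem isNoetherianObject_OU (U : X.Opens) (hU : IsCompact (U : Set X)) :
    IsNoetherianObject (OU U) := by
  have : CompactSpace (U : Scheme.{u}) := isCompact_iff_compactSpace.1 hU
  have := isNoetherianObject_jShriek_unit U.ι
  exact Groth.Agent.Sga5.NoethObj.isNoetherianObject_of_iso (Groth.Agent.PerfA.OUTF.isoShriek' U).symm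

/-- Coproducts of injective modules on a locally Noetherian scheme are injective. -/
theorem injective_coproduct {ι : Type u} (I : ι → X.Modules) (hI : ∀ i, Injective (I i)) :
    Injective (∐ I) := by
  have := isGrothendieckAbelian X
  have : ∀ U : X.affineOpens, IsNoetherianObject (OU U.1) :=
    fun U => isNoetherianObject_OU X U.1 U.2.isCompact
  exact NoethInj.injective_coproduct.{u} (fun U : X.affineOpens => OU U.1)
    (fun p _ h => isIso_of_affine p h) I hI

end OU

end K48.NoethShriek
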