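import Groth.Agent.Coherent.K48.TildeIndec
import Groth.Agent.Coherent.K48.NoethShriek
import Groth.Agent.Coherent.K48.InjLocal
import Groth.Agent.S0307
import Mathlib.Algebra.Category.ModuleCat.Products

/-!
# `I^~` is an injective `O_{Spec R}`-module for `I` injective over `R` Noetherian
-/

set_option autoImplicit false

universe u

open CategoryTheory CategoryTheory.Limits AlgebraicGeometry TopologicalSpace Opposite
open scoped DirectSum

namespace K48.TildeInj

/-- `I^~` is injective in the category of all `O`-modules for `I` injective over a Noetherian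
ring. -/
theorem injective_tilde (R : CommRingCat.{u}) [IsNoetherianRing R] (I : ModuleCat.{u} R)
    (hI : Module.Injective R I) : Injective (tilde I) := by
  classical
  obtain ⟨ι, E, hint, hE⟩ := Groth.Agent.S0307.result R I hI
  let e : (⨁ i, E i) ≃ₗ[R] I := LinearEquiv.ofBijective (DirectSum.coeLinearMap E) hint
  let e1 : (tilde.functor R).obj (∐ fun i => ModuleCat.of R (E i)) ≅ tilde I :=
    (tilde.functor R).mapIso
      ((ModuleCat.coprodIsoDirectSum (fun i => ModuleCat.of R (E i))) ≪≫ e.toModuleIso)
  let e2 : (tilde.functor R).obj (∐ fun i => ModuleCat.of R (E i)) ≅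
      ∐ (fun i => (tilde.functor R).obj (ModuleCat.of R (E i))) :=
    PreservesCoproduct.iso (tilde.functor R) _
  have h : Injective (∐ (fun i => (tilde.functor R).obj (ModuleCat.of R (E i)))) :=
    K48.NoethShriek.injective_coproduct (Spec R) _ fun i =>
      K48.TildeIndec.injective_of_indecomposable (R := R) (E i) (hE i).1 (hE i).2
  exact Injective.of_iso (e2.symm ≪≫ e1) h

/-- A quasi-coherent module on an affine Noetherian scheme with injective global sections is
injective. -/
theorem injective_of_sections_Spec (R : CommRingCat.{u}) [IsNoetherianRing R] (F : (Spec R).Modules)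
    (hF : Coh.IsQCoh F) (hI : Module.Injective R Γ(F, ⊤)) : Injective F := by
  have h1 : IsIso F.fromTildeΓ := by
    have : F.IsQuasicoherent := hF
    infer_instance
  have h2 := injective_tilde R ((moduleSpecΓFunctor (R := R)).obj F) hI
  exact Injective.of_iso (asIso F.fromTildeΓ) h2

end K48.TildeInj
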