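import Groth.Agent.Coherent.K48.ExtIdeal
import Groth.Agent.Coherent.K48.TildeInj
import Groth.Agent.AffSch.K586.HomTilde
import Groth.Agent.Dcoh.DerSch
import Groth.Agent.CohqB.HomSheafCoh
import Groth.Agent.PerfB.TildeExact

/-!
# Sections of Ext sheaves over affine open subsets
-/

set_option autoImplicit false
universe u
open CategoryTheory CategoryTheory.Limits AlgebraicGeometry TopologicalSpace Opposite

namespace K48.ExtTilde

open Groth.Agent Groth.Agent.Dcoh.MonClosed K48.StalkExt Groth.Agent.CohqB.HomSheaf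
  Groth.Agent.Sga4h.RDExact K586.ExtTilde K586.HomTilde

variable {R : CommRingCat.{u}} (M N : ModuleCat.{u} R)

lemma map_app_topS {M N : ModuleCat.{u} R} (φ : M ⟶ N) (m : M) :
    (tilde.map φ).app ⊤ (topS M m) = topS N (φ m) := by
  have h := congrArg (fun f => f.hom m) (tilde.toOpen_map_app φ ⊤)
  exact h

/-- A morphism of modules, as a global section of the sheaf Hom. -/
noncomputable def tau : (M ⟶ N) →ₗ[R] Γ(homSheaf (tilde M) (tilde N), ⊤) where
  toFun φ := ofHom (tilde.map φ) ⊤
  map_add' φ ψ := by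
    rw [tilde.map_add]
    rfl
  map_smul' r φ := by
    refine comp_injective (isQCoh_tilde M) (isAffineOpen_top (Spec R)) fun m => ?_
    obtain ⟨m, rfl⟩ := (topS_bijective M).2 m
    have h1 : comp (ofHom (tilde.map (r • φ)) ⊤) ⊤ le_rfl (topS M m) =
        topS N ((r • φ : M ⟶ N) m) := map_app_topS _ _
    have h2 : comp (ofHom (tilde.map φ) ⊤) ⊤ le_rfl (topS M m) = topS N (φ m) := map_app_topS _ _
    have h3 : comp (r • (ofHom (tilde.map φ) ⊤ : Γ(homSheaf (tilde M) (tilde N), ⊤))) ⊤ le_rfl
        (topS M m) = (Scheme.ΓSpecIso R).inv.hom r •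
          comp (ofHom (tilde.map φ) ⊤) ⊤ le_rfl (topS M m) := by
      rw [Scheme.Modules.smul_Spec_def, comp_smul, LinearMap.smul_apply]
      have h4 : ((Spec R).presheaf.map (⊤ : (Spec R).Opens).leTop.op) = 𝟙 _ := by
        have h : (⊤ : (Spec R).Opens).leTop.op = 𝟙 _ := rfl
        rw [h]
        exact (Spec R).presheaf.map_id _
      have h5 : ((Spec R).presheaf.map (homOfLE (le_refl (⊤ : (Spec R).Opens))).op) = 𝟙 _ := h4
      rw [h5, h4]
      rfl
    refine h1.trans (Eq.trans ?_ h3.symm)
    rw [h2]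
    exact (topS N).map_smulₛₗ r (φ m)

lemma tau_apply (φ : M ⟶ N) : tau M N φ = ofHom (tilde.map φ) ⊤ := rfl

lemma tau_bijective : Function.Bijective (tau M N) := by
  have h1 : Function.Bijective (fun φ : M ⟶ N => tilde.map φ) :=
    (tilde.fullyFaithfulFunctor (R := R)).map_bijective M N
  exact (topEquiv (tilde M) (tilde N)).symm.bijective.comp h1

/-- A morphism of modules, as a global section of the sheaf Hom. -/
noncomputable def tauHom : ModuleCat.of R (M ⟶ N) ⟶
    moduleSpecΓFunctor.obj (homSheaf (tilde M) (tilde N)) :=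
  (ModuleCat.ofHom (tau M N) :
    ModuleCat.of R (M ⟶ N) ⟶ ModuleCat.of R Γ(homSheaf (tilde M) (tilde N), ⊤))

lemma isIso_tauHom : IsIso (tauHom M N) := by
  have h : IsIso (ModuleCat.ofHom (tau M N) :
      ModuleCat.of R (M ⟶ N) ⟶ ModuleCat.of R Γ(homSheaf (tilde M) (tilde N), ⊤)) :=
    (ConcreteCategory.isIso_iff_bijective _).2 (tau_bijective M N)
  exact h

/-- Morphisms of modules as global sections of the sheaf Hom, as a natural transformation. -/
noncomputable def tauNat : (linearCoyoneda R (ModuleCat.{u} R)).obj (op M) ⟶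
    (tilde.functor R ⋙ homFunctor (tilde M)) ⋙ moduleSpecΓFunctor where
  app N := tauHom M N
  naturality N N' φ := by
    apply ModuleCat.hom_ext
    apply LinearMap.ext
    intro ψ
    change ofHom (tilde.map (ψ ≫ φ)) ⊤ =
      ((homFunctor (tilde M)).map (tilde.map φ)).app ⊤ (ofHom (tilde.map ψ) ⊤)
    rw [tilde.map_comp]
    rfl

/-- The sheaf Hom of associated modules. -/
noncomputable def thetaNat : (linearCoyoneda R (ModuleCat.{u} R)).obj (op M) ⋙ tilde.functor R ⟶
    tilde.functor R ⋙ homFunctor (tilde M) :=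
  Functor.whiskerRight (tauNat M) (tilde.functor R) ≫
    (Functor.associator _ _ _).hom ≫
    Functor.whiskerLeft (tilde.functor R ⋙ homFunctor (tilde M)) Scheme.Modules.fromTildeΓNatTrans

lemma isIso_thetaNat [Module.FinitePresentation R M] : IsIso (thetaNat M) := by
  rw [NatTrans.isIso_iff_isIso_app]
  intro N
  have h1 : IsIso (tauHom M N) := isIso_tauHom M N
  have h2 : IsIso (homSheaf (tilde M) (tilde N)).fromTildeΓ :=
    (isQuasicoherent_iff_isIso_fromTildeΓ _).mp (isQCoh_homSheaf_tilde M N)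
  have h3 : (thetaNat M).app N = (tilde.functor R).map (tauHom M N) ≫
      (homSheaf (tilde M) (tilde N)).fromTildeΓ := by
    simp only [thetaNat, NatTrans.comp_app, Functor.whiskerRight_app, Functor.associator_hom_app,
      Category.id_comp, Functor.whiskerLeft_app]
    rfl
  rw [h3]
  exact IsIso.comp_isIso' (Functor.map_isIso _ _) h2

/-- Derived functors of the sheaf Hom of associated modules. -/
noncomputable def derTilde [IsNoetherianRing R] [Module.Finite R M]
    [HasInjectiveResolutions (Spec R).Modules] (i : ℕ) :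
    tilde.functor R ⋙ (homFunctor (tilde M)).rightDerived i ≅
      ((linearCoyoneda R (ModuleCat.{u} R)).obj (op M)).rightDerived i ⋙ tilde.functor R :=
  haveI : Module.FinitePresentation R M := Module.finitePresentation_of_finite R M
  haveI := isIso_thetaNat M
  (preIso (tilde.functor R) (homFunctor (tilde M)) (fun I hI =>
    TildeInj.injective_tilde R I
      (Module.injective_module_of_injective_object R I (inj := hI))) i).symm ≪≫
    (congrIso (asIso (thetaNat M)) i).symm ≪≫
    postIso ((linearCoyoneda R (ModuleCat.{u} R)).obj (op M)) (tilde.functor R) i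

section Congr

variable {X : Scheme.{u}}

/-- The sheaf Hom functors of isomorphic modules are isomorphic. -/
noncomputable def homFunctorCongr {F F' : X.Modules} (e : F ≅ F') : homFunctor F ≅ homFunctor F' :=
  (tensorBiHomAdj F).rightAdjointUniq ((tensorBiHomAdj F').ofNatIsoLeft
    ((DCoh.tensorBi (X := X)).mapIso e.symm))

/-- Derived functors of the sheaf Hom on isomorphic modules. -/
noncomputable def derCongr [HasInjectiveResolutions X.Modules] {F F' G G' : X.Modules} (e : F ≅ F')
    (e' : G ≅ G') (i : ℕ) :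
    ((homFunctor F).rightDerived i).obj G ≅ ((homFunctor F').rightDerived i).obj G' :=
  (congrIso (homFunctorCongr e) i).app G ≪≫ ((homFunctor F').rightDerived i).mapIso e'

end Congr

/-- Global sections of the derived functors of the sheaf Hom over a Noetherian affine scheme. -/
theorem nonempty_sections_Spec [IsNoetherianRing R] (F G : (Spec R).Modules)
    (hF : Coh.IsQCoh F) (hG : Coh.IsQCoh G) [HasInjectiveResolutions (Spec R).Modules]
    {M N : ModuleCat.{u} R} [Module.Finite R M] (eM : Γ(F, ⊤) ≃ₗ[R] M) (eN : Γ(G, ⊤) ≃ₗ[R] N)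
    (i : ℕ) :
    Nonempty (Γ(((homFunctor F).rightDerived i).obj G, ⊤) ≃ₗ[R] Abelian.Ext.{u} M N i) := by
  obtain ⟨e⟩ := ExtLin.nonempty_linearEquiv (R := R) M N i
  have h1 : IsIso F.fromTildeΓ := (isQuasicoherent_iff_isIso_fromTildeΓ _).mp hF
  have h2 : IsIso G.fromTildeΓ := (isQuasicoherent_iff_isIso_fromTildeΓ _).mp hG
  let a : moduleSpecΓFunctor.obj F ≅ M := LinearEquiv.toModuleIso (X₁ := Γ(F, ⊤)) (X₂ := M) eM
  let b : moduleSpecΓFunctor.obj G ≅ N := LinearEquiv.toModuleIso (X₁ := Γ(G, ⊤)) (X₂ := N) eN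
  let a' : F ≅ tilde M := (asIso F.fromTildeΓ).symm ≪≫ (tilde.functor R).mapIso a
  let b' : G ≅ tilde N := (asIso G.fromTildeΓ).symm ≪≫ (tilde.functor R).mapIso b
  let c : moduleSpecΓFunctor.obj (((homFunctor F).rightDerived i).obj G) ≅
      (((linearCoyoneda R (ModuleCat.{u} R)).obj (op M)).rightDerived i).obj N :=
    moduleSpecΓFunctor.mapIso (derCongr a' b' i ≪≫ (derTilde M i).app N) ≪≫
      (tilde.toTildeΓNatIso.app _).symm
  exact ⟨c.toLinearEquiv.trans e⟩

/-- Sections over an affine open of the derived functors of the sheaf Hom of a coherent module. -/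
theorem nonempty_sections {X : Scheme.{u}} [IsLocallyNoetherian X] {U : X.Opens}
    (hU : IsAffineOpen U) (F G : X.Modules) (hF : Coh.IsCoh F) (hG : Coh.IsQCoh G)
    [HasInjectiveResolutions X.Modules] (i : ℕ) :
    Nonempty (Γ(((homFunctor F).rightDerived i).obj G, U) ≃ₗ[Γ(X, U)]
      Abelian.Ext.{u} (ModuleCat.of Γ(X, U) Γ(F, U)) (ModuleCat.of Γ(X, U) Γ(G, U)) i) := by
  have hA : IsNoetherianRing Γ(X, U) := IsLocallyNoetherian.component_noetherian ⟨U, hU⟩
  have := Groth.Agent.Dcoh.DerSch.hasInjectiveResolutions (Spec Γ(X, U))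
  have hfin : Module.Finite Γ(X, U) Γ(F, U) := by
    have := Groth.Agent.CohqB.HomSheaf.finitePresentation_of_isCoh hF hU
    infer_instance
  have h1 : Coh.IsQCoh (F.restrict hU.fromSpec) :=
    Groth.Agent.Fdesc.QCohStalk.restrict_isQCoh F hF.1 _
  have h2 : Coh.IsQCoh (G.restrict hU.fromSpec) :=
    Groth.Agent.Fdesc.QCohStalk.restrict_isQCoh G hG _
  obtain ⟨e⟩ := nonempty_sections_Spec (R := Γ(X, U)) (F.restrict hU.fromSpec)
    (G.restrict hU.fromSpec) h1 h2 (M := ModuleCat.of Γ(X, U) Γ(F, U))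
    (N := ModuleCat.of Γ(X, U) Γ(G, U)) (Groth.Agent.CohqA.AffSec.secEquiv F hU)
    (Groth.Agent.CohqA.AffSec.secEquiv G hU) i
  let c : (((homFunctor F).rightDerived i).obj G).restrict hU.fromSpec ≅
      ((homFunctor (F.restrict hU.fromSpec)).rightDerived i).obj (G.restrict hU.fromSpec) :=
    (ExtRestr.derRes hU.fromSpec F i).app G
  let c' : moduleSpecΓFunctor.obj ((((homFunctor F).rightDerived i).obj G).restrict hU.fromSpec) ≅
      moduleSpecΓFunctor.obj
        (((homFunctor (F.restrict hU.fromSpec)).rightDerived i).obj (G.restrict hU.fromSpec)) :=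
    moduleSpecΓFunctor.mapIso c
  exact ⟨((Groth.Agent.CohqA.AffSec.secEquiv _ hU).symm.trans c'.toLinearEquiv).trans e⟩

/-- Isomorphic modules have isomorphic sections. -/
noncomputable def secIso {X : Scheme.{u}} {M N : X.Modules} (e : M ≅ N) (U : X.Opens) :
    Γ(M, U) ≃ₗ[Γ(X, U)] Γ(N, U) :=
  LinearEquiv.ofLinearMap (appL e.hom U) (appL e.inv U)
    (LinearMap.ext fun s => by
      change e.hom.app U (e.inv.app U s) = s
      exact congrArg (fun f : N ⟶ N => f.app U s) e.inv_hom_id)
    (LinearMap.ext fun s => by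
      change e.inv.app U (e.hom.app U s) = s
      exact congrArg (fun f : M ⟶ M => f.app U s) e.hom_inv_id)

/-- Sections over an affine open of the Ext sheaves of a coherent module. -/
theorem nonempty_sections_extSh {X : Scheme.{u}} [IsLocallyNoetherian X] {U : X.Opens}
    (hU : IsAffineOpen U) (F G : X.Modules) (hF : Coh.IsCoh F) (hG : Coh.IsQCoh G)
    [ModSite.HasSheafHom (O := X.sheaf) F] [HasInjectiveResolutions (ModSite.Mod X.sheaf)] (i : ℕ) :
    Nonempty (Γ((show X.Modules from (ModSite.extSh (O := X.sheaf) F i).obj G), U) ≃ₗ[Γ(X, U)]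
      Abelian.Ext.{u} (ModuleCat.of Γ(X, U) Γ(F, U)) (ModuleCat.of Γ(X, U) Γ(G, U)) i) := by
  have := Groth.Agent.Dcoh.DerSch.hasInjectiveResolutions X
  obtain ⟨e⟩ := nonempty_sections hU F G hF hG i
  exact ⟨(secIso (ExtRestr.extShIso F i G) U).trans e⟩

end K48.ExtTilde
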