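import Groth.Agent.Coherent.K48.NoethShriek
import Groth.Agent.Dcoh.FlatRes

/-!
# Every module is a quotient of a direct sum of modules `j_! O_U`, which is flat
-/

set_option autoImplicit false

universe u

open CategoryTheory CategoryTheory.Limits AlgebraicGeometry TopologicalSpace

namespace K48.FlatCover

open Groth.Agent.PerfA.ExtZero

variable {X : Scheme.{u}}

lemma isFlat_OU (U : X.Opens) : FlatMod.IsFlat (OU U) :=
  Groth.Agent.Dcoh.FlatRes.isFlat_shP_obj
    ((PresheafOfModules.free.{u} (X.presheaf ⋙ forget₂ CommRingCat RingCat)).obj (yoneda.obj U))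
    (fun x => Groth.Agent.Dcoh.StalkFree.flat_stalk_fr (R := X.presheaf) (U := U) x)

/-- `j_! O_U` in two descriptions. -/
noncomputable def isoOU (U : X.Opens) : OU U ≅ CxOX.extZeroUnit U.ι :=
  Groth.Agent.PerfA.OUTF.isoShriek' U ≪≫ (NoethShriek.extZeroUnitIso U.ι).symm

lemma isFlat_extZeroUnit (U : X.Opens) : FlatMod.IsFlat (CxOX.extZeroUnit U.ι) :=
  Groth.Agent.Dcoh.FlatRes.isFlat_of_iso (isoOU U) (isFlat_OU U)

theorem exists_epi (F : X.Modules) :
    ∃ (ι : Type u) (U : ι → X.Opens) (p : (∐ fun i => CxOX.extZeroUnit (U i).ι) ⟶ F),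
      Epi p ∧ FlatMod.IsFlat (∐ fun i => CxOX.extZeroUnit (U i).ι) := by
  refine ⟨Σ U : X.Opens, Γ(F, U), fun i => i.1,
    Sigma.desc fun i => (isoOU i.1).inv ≫ desc i.2, ⟨fun {Z} f g h => ?_⟩,
    Groth.Agent.Dcoh.FlatRes.isFlat_sigma _ fun i => isFlat_extZeroUnit i.1⟩
  ext U s
  have h1 := (Sigma.ι (fun i : Σ U : X.Opens, Γ(F, U) => CxOX.extZeroUnit i.1.ι) ⟨U, s⟩) ≫= h
  rw [Sigma.ι_desc_assoc, Sigma.ι_desc_assoc, Category.assoc, Category.assoc,
    Iso.cancel_iso_inv_left, desc_comp, desc_comp] at h1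
  exact desc_injective h1

end K48.FlatCover
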