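import Groth.Agent.Ega1.SubSheaf
import Groth.Agent.CycB.ModStalk
import Mathlib.AlgebraicGeometry.Noetherian
import Mathlib.AlgebraicGeometry.Morphisms.QuasiSeparated

/-!
# Sheaves of ideals on a Noetherian scheme are generated by finitely many local sections
-/

set_option autoImplicit false

universe u

open CategoryTheory CategoryTheory.Limits AlgebraicGeometry TopologicalSpace

namespace K48.IdealGen

open Groth.Agent.Ega1.SubSheaf
open Groth.Agent.CycB.ModStalk (germ_smul)

variable {X : Scheme.{u}} {G : X.Modules} (ι : G ⟶ Coh.structureModule X)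

/-- The function attached to a section of the ideal sheaf. -/
noncomputable def fn {U : X.Opens} (s : Γ(G, U)) : Γ(X, U) := ι.app U s

lemma fn_add {U : X.Opens} (s t : Γ(G, U)) : fn ι (s + t) = fn ι s + fn ι t := map_add _ _ _

lemma fn_zero {U : X.Opens} : fn ι (0 : Γ(G, U)) = 0 := map_zero _

lemma fn_smul {U : X.Opens} (r : Γ(X, U)) (s : Γ(G, U)) : fn ι (r • s) = r * fn ι s :=
  app_smul' ι r s

lemma fn_sum {U : X.Opens} {κ : Type*} (S : Finset κ) (s : κ → Γ(G, U)) :
    fn ι (∑ i ∈ S, s i) = ∑ i ∈ S, fn ι (s i) := map_sum (ι.app U).hom _ _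

lemma fn_res {U V : X.Opens} (h : V ≤ U) (s : Γ(G, U)) :
    fn ι (res G h s) = X.presheaf.map (homOfLE h).op (fn ι s) := app_res ι h s

lemma fn_injective [Mono ι] (U : X.Opens) : Function.Injective (fn ι (U := U)) :=
  (mono_iff_injective ι).1 inferInstance U

/-- The ideal of functions on `U` whose germ at `x` comes from `G`. -/
def J {x : X} {U : X.Opens} (hxU : x ∈ U) : Ideal Γ(X, U) where
  carrier := {a | ∃ (W : X.Opens) (h : W ≤ U) (_ : x ∈ W) (s : Γ(G, W)),
    fn ι s = X.presheaf.map (homOfLE h).op a}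
  add_mem' := by
    rintro a b ⟨W, h, hx, s, hs⟩ ⟨W', h', hx', s', hs'⟩
    refine ⟨W ⊓ W', inf_le_left.trans h, ⟨hx, hx'⟩, res G inf_le_left s + res G inf_le_right s', ?_⟩
    rw [fn_add, fn_res, fn_res, hs, hs', map_add]
    congr 1
    · rw [← CommRingCat.comp_apply, ← Functor.map_comp]; rfl
    · rw [← CommRingCat.comp_apply, ← Functor.map_comp]; rfl
  zero_mem' := ⟨U, le_rfl, hxU, 0, by rw [fn_zero, map_zero]⟩
  smul_mem' := by
    rintro r a ⟨W, h, hx, s, hs⟩
    refine ⟨W, h, hx, X.presheaf.map (homOfLE h).op r • s, ?_⟩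
    rw [fn_smul, hs, smul_eq_mul, map_mul]

lemma res_res' {U V W : X.Opens} (h : V ≤ U) (h' : W ≤ V) (a : Γ(X, U)) :
    X.presheaf.map (homOfLE h').op (X.presheaf.map (homOfLE h).op a) =
      X.presheaf.map (homOfLE (h'.trans h)).op a := by
  rw [← CommRingCat.comp_apply, ← Functor.map_comp]; rfl

/-- Finitely many sections generate the stalks along the closure of a point, near the point. -/
lemma exists_gen_near [Mono ι] [IsLocallyNoetherian X] (x : X) :
    ∃ (V : X.Opens) (_ : x ∈ V) (n : ℕ) (s : Fin n → Γ(G, V)), ∀ (y : X) (hy : y ∈ V), x ⤳ y →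
      Submodule.span (X.presheaf.stalk y) (Set.range fun i => G.presheaf.germ V y hy (s i)) = ⊤ := by
  obtain ⟨U, hU, hxU, -⟩ := exists_isAffineOpen_mem_and_subset (x := x) (U := ⊤) trivial
  have hA : IsNoetherianRing Γ(X, U) := IsLocallyNoetherian.component_noetherian ⟨U, hU⟩
  obtain ⟨n, a, ha⟩ := Submodule.fg_iff_exists_fin_generating_family.1
    ((isNoetherianRing_iff_ideal_fg _).1 hA (J ι hxU))
  have hai : ∀ i, a i ∈ J ι hxU := fun i => by
    rw [← ha]
    exact Submodule.subset_span ⟨i, rfl⟩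
  choose W hWU hxW s hs using hai
  have hx' : x ∈ (Finset.univ.inf W : X.Opens) := by
    rw [← SetLike.mem_coe, Opens.coe_finset_inf]
    simpa using hxW
  have hV0 : ∀ i, U ⊓ Finset.univ.inf W ≤ W i :=
    fun i => inf_le_right.trans (Finset.inf_le (Finset.mem_univ i))
  refine ⟨U ⊓ Finset.univ.inf W, ⟨hxU, hx'⟩, n, fun i => res G (hV0 i) (s i), fun y hy hxy => ?_⟩
  rw [eq_top_iff]
  rintro t -
  obtain ⟨W', hyW', t, rfl⟩ := G.presheaf.exists_germ_eq t
  obtain ⟨h, hh, hyh⟩ := hU.exists_basicOpen_le (V := W' ⊓ (U ⊓ Finset.univ.inf W))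
    ⟨y, ⟨hyW', hy⟩⟩ hy.1
  have hhU : X.basicOpen h ≤ U := X.basicOpen_le h
  have hhW : ∀ i, X.basicOpen h ≤ W i := fun i => hh.trans (inf_le_right.trans (hV0 i))
  have hxh : x ∈ X.basicOpen h := hxy.mem_open (X.basicOpen h).2 hyh
  set t' : Γ(G, X.basicOpen h) := res G (hh.trans inf_le_left) t with ht'
  obtain ⟨k, b, hb⟩ := exists_eq_pow_mul_of_isAffineOpen X U hU h (fn ι t')
  change X.presheaf.map (homOfLE hhU).op b = (X.presheaf.map (homOfLE hhU).op h) ^ k * _ at hb
  have hbJ : b ∈ J ι hxU := by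
    refine ⟨X.basicOpen h, hhU, hxh, (X.presheaf.map (homOfLE hhU).op h) ^ k • t', ?_⟩
    rw [fn_smul, hb]
  rw [← ha, Submodule.mem_span_range_iff_exists_fun] at hbJ
  obtain ⟨c, hc⟩ := hbJ
  have key : (X.presheaf.map (homOfLE hhU).op h) ^ k • t' =
      ∑ i, X.presheaf.map (homOfLE hhU).op (c i) • res G (hhW i) (s i) := by
    apply fn_injective ι
    rw [fn_smul, ← hb, fn_sum, ← hc, map_sum]
    refine Finset.sum_congr rfl fun i _ => ?_
    rw [fn_smul, fn_res, hs, smul_eq_mul, map_mul, res_res']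
  have hu : IsUnit (X.presheaf.map (homOfLE hhU).op h) :=
    RingedSpace.isUnit_res_basicOpen _ h
  have key2 : t' = ∑ i, (((hu.pow k).unit⁻¹ : (Γ(X, X.basicOpen h))ˣ) : Γ(X, X.basicOpen h)) •
      X.presheaf.map (homOfLE hhU).op (c i) • res G (hhW i) (s i) := by
    rw [← Finset.smul_sum, ← key, smul_smul]
    have : (((hu.pow k).unit⁻¹ : (Γ(X, X.basicOpen h))ˣ) : Γ(X, X.basicOpen h)) *
      (X.presheaf.map (homOfLE hhU).op h) ^ k = 1 := (hu.pow k).val_inv_mul
    rw [this, one_smul]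
  have key3 : G.presheaf.germ W' y hyW' t = G.presheaf.germ _ y hyh t' :=
    (G.presheaf.germ_res_apply _ y hyh t).symm
  rw [key3, key2, map_sum]
  refine Submodule.sum_mem _ fun i _ => ?_
  rw [germ_smul, germ_smul]
  refine Submodule.smul_mem _ _ (Submodule.smul_mem _ _ (Submodule.subset_span ⟨i, ?_⟩))
  dsimp only
  rw [← res_res G (hV0 i) (hh.trans inf_le_right)]
  exact (G.presheaf.germ_res_apply _ y hyh _).symm

/-- The submodule of the stalk generated by a set of local sections. -/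
noncomputable def Gen (S : Set (Σ U : X.Opens, Γ(G, U))) (y : X) :
    Submodule (X.presheaf.stalk y) (G.presheaf.stalk y) :=
  Submodule.span (X.presheaf.stalk y)
    {t | ∃ p ∈ S, ∃ (hy : y ∈ p.1), t = G.presheaf.germ p.1 y hy p.2}

lemma Gen_mono {S T : Set (Σ U : X.Opens, Γ(G, U))} (h : S ⊆ T) (y : X) : Gen S y ≤ Gen T y :=
  Submodule.span_mono (by rintro _ ⟨p, hp, hy, rfl⟩; exact ⟨p, h hp, hy, rfl⟩)

/-- Finitely many local sections generate all the stalks over `Z`. -/
def FinGen (G : X.Modules) (Z : Set X) : Prop :=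
  ∃ S : Set (Σ U : X.Opens, Γ(G, U)), S.Finite ∧ ∀ y ∈ Z, Gen S y = ⊤

lemma FinGen.union {Z Z' : Set X} (h : FinGen G Z) (h' : FinGen G Z') : FinGen G (Z ∪ Z') := by
  obtain ⟨S, hS, e⟩ := h
  obtain ⟨S', hS', e'⟩ := h'
  refine ⟨S ∪ S', hS.union hS', ?_⟩
  rintro y (hy | hy)
  · rw [eq_top_iff, ← e y hy]
    exact Gen_mono Set.subset_union_left y
  · rw [eq_top_iff, ← e' y hy]
    exact Gen_mono Set.subset_union_right y

lemma FinGen.mono {Z Z' : Set X} (h : FinGen G Z') (h' : Z ⊆ Z') : FinGen G Z := by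
  obtain ⟨S, hS, e⟩ := h
  exact ⟨S, hS, fun y hy => e y (h' hy)⟩

lemma finGen_near [Mono ι] [IsLocallyNoetherian X] (x : X) :
    ∃ (V : X.Opens) (_ : x ∈ V), FinGen G (V ∩ {y | x ⤳ y}) := by
  obtain ⟨V, hxV, n, s, hs⟩ := exists_gen_near ι x
  refine ⟨V, hxV, Set.range fun i => ⟨V, s i⟩, Set.finite_range _, fun y hy => ?_⟩
  rw [eq_top_iff, ← hs y hy.1 hy.2]
  refine Submodule.span_mono ?_
  rintro _ ⟨i, rfl⟩
  exact ⟨_, ⟨i, rfl⟩, hy.1, rfl⟩

theorem finGen_closeds [Mono ι] [IsNoetherian X] (Z : Closeds X) : FinGen G (Z : Set X) := by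
  induction Z using WellFoundedLT.induction with
  | ind Z ih =>
    by_cases hne : (Z : Set X).Nonempty
    swap
    · rw [Set.not_nonempty_iff_eq_empty] at hne
      rw [hne]
      exact ⟨∅, Set.finite_empty, fun y hy => hy.elim⟩
    by_cases hirr : IsPreirreducible (Z : Set X)
    · have hi : IsIrreducible (Z : Set X) := ⟨hne, hirr⟩
      obtain ⟨x, hcl⟩ : ∃ x, closure {x} = (Z : Set X) :=
        ⟨hi.genericPoint, hi.closure_genericPoint Z.isClosed⟩
      obtain ⟨V, hxV, hV⟩ := finGen_near ι x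
      have hZ' : FinGen G (Z ∩ (V : Set X)ᶜ : Set X) := by
        have := ih (Z ⊓ V.compl) (by
          refine lt_of_le_of_ne inf_le_left fun e => ?_
          have h1 : x ∈ (Z : Set X) := by
            rw [← hcl]; exact subset_closure rfl
          rw [← e] at h1
          exact h1.2 hxV)
        exact this
      refine (hV.union hZ').mono fun y hy => ?_
      by_cases hyV : y ∈ V
      · left
        refine ⟨hyV, ?_⟩
        change _ ⤳ _
        rw [specializes_iff_mem_closure, hcl]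
        exact hy
      · right
        exact ⟨hy, hyV⟩
    · rw [isPreirreducible_iff_isClosed_union_isClosed] at hirr
      push Not at hirr
      obtain ⟨z₁, z₂, h₁, h₂, h, h₁', h₂'⟩ := hirr
      have k₁ := ih (Z ⊓ ⟨z₁, h₁⟩) (by
        refine lt_of_le_of_ne inf_le_left fun e => h₁' ?_
        rw [← e]
        exact fun y hy => hy.2)
      have k₂ := ih (Z ⊓ ⟨z₂, h₂⟩) (by
        refine lt_of_le_of_ne inf_le_left fun e => h₂' ?_
        rw [← e]
        exact fun y hy => hy.2)
      refine (k₁.union k₂).mono fun y hy => ?_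
      rcases h hy with h | h
      · exact Or.inl ⟨hy, h⟩
      · exact Or.inr ⟨hy, h⟩

/-- The stalks of a sheaf of ideals on a Noetherian scheme are generated by finitely many local
sections. -/
theorem finGen_univ [Mono ι] [IsNoetherian X] : FinGen G (Set.univ : Set X) :=
  finGen_closeds ι ⊤

end K48.IdealGen
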