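import Groth.Agent.S0304
import Groth.Agent.Localalg.InjHull

/-!
# Indecomposable injective modules over Noetherian rings: elements act invertibly or nilpotently
-/

set_option autoImplicit false

universe u

namespace K48.IndecAlg

variable {R : Type u} [CommRing R] {E : Type u} [AddCommGroup E] [Module R E]

/-- Elements acting injectively on an indecomposable injective module act surjectively. -/
lemma surjective_of_injective (hE : InjHull.IsIndecomposable R E) (hinj : Module.Injective R E)
    (f : R) (hf : Function.Injective (fun x : E => f • x)) :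
    Function.Surjective (fun x : E => f • x) := by
  let φ : E →ₗ[R] E := LinearMap.lsmul R E f
  obtain ⟨C, hC⟩ := Groth.Agent.Localalg.InjHull.exists_isCompl_range hinj φ hf
  have h1 : LinearMap.range φ ≠ ⊥ := by
    have := hE.1
    obtain ⟨y, hy⟩ := exists_ne (0 : E)
    intro h
    apply hy
    apply hf
    have h2 : φ y ∈ LinearMap.range φ := ⟨y, rfl⟩
    rw [h, Submodule.mem_bot] at h2
    exact h2.trans (smul_zero f).symm
  rcases hE.2 _ _ hC with h | h
  · exact absurd h h1
  · have h2 := hC.sup_eq_top
    rw [h, sup_bot_eq] at h2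
    exact LinearMap.range_eq_top.mp h2

/-- Over a Noetherian ring, an indecomposable injective module has a prime `p` such that elements
outside of `p` act bijectively and elements of `p` act locally nilpotently. -/
theorem exists_prime [IsNoetherianRing R] (hE : InjHull.IsIndecomposable R E)
    (hinj : Module.Injective R E) :
    ∃ p : Ideal R, p.IsPrime ∧ (∀ f ∉ p, Function.Bijective (fun x : E => f • x)) ∧
      (∀ f ∈ p, ∀ x : E, ∃ n : ℕ, f ^ n • x = 0) := by
  obtain ⟨h1, p, hp, hps⟩ := Groth.Agent.S0304.result R E hE hinj
  have hmem : ∀ r : R, r ∈ p ↔ ∃ x : E, x ≠ 0 ∧ r • x = 0 := fun r =>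
    (Set.ext_iff.mp hps r)
  refine ⟨p, hp, ?_, ?_⟩
  · intro f hf
    have hi : Function.Injective (fun x : E => f • x) := by
      intro a b hab
      by_contra hne
      apply hf
      rw [hmem]
      refine ⟨a - b, sub_ne_zero.mpr hne, ?_⟩
      rw [smul_sub, sub_eq_zero]
      exact hab
    exact ⟨hi, surjective_of_injective hE hinj f hi⟩
  · intro f hf x
    obtain ⟨y, hy, hfy⟩ := (hmem f).mp hf
    by_contra hx
    push Not at hx
    -- the annihilators of `f ^ n • x` are stationary
    let a : ℕ →o Ideal R :=
      { toFun := fun n => LinearMap.ker (LinearMap.toSpanSingleton R E (f ^ n • x))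
        monotone' := by
          intro m n hmn r hr
          rw [LinearMap.mem_ker, LinearMap.toSpanSingleton_apply] at hr ⊢
          obtain ⟨k, rfl⟩ := Nat.exists_eq_add_of_le hmn
          rw [pow_add, mul_comm, mul_smul, smul_comm, hr, smul_zero] }
    obtain ⟨n, hn⟩ := monotone_stabilizes_iff_noetherian.mpr
      (inferInstance : IsNoetherian R R) a
    have hn1 : a n = a (n + 1) := hn (n + 1) (Nat.le_succ n)
    have hdis : Submodule.span R {f ^ n • x} ⊓ Submodule.span R {y} = ⊥ := by
      rw [eq_bot_iff]
      rintro z ⟨hz1, hz2⟩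
      obtain ⟨c, rfl⟩ := Submodule.mem_span_singleton.mp hz1
      obtain ⟨d, hd⟩ := Submodule.mem_span_singleton.mp hz2
      have h3 : c ∈ a (n + 1) := by
        change c ∈ LinearMap.ker (LinearMap.toSpanSingleton R E (f ^ (n + 1) • x))
        rw [LinearMap.mem_ker, LinearMap.toSpanSingleton_apply, pow_succ', mul_smul, smul_comm, ← hd,
          smul_comm, hfy, smul_zero]
      rw [← hn1] at h3
      exact h3
    exact h1 _ _ (by simpa [Submodule.span_singleton_eq_bot] using hx n)
      (by simpa [Submodule.span_singleton_eq_bot] using hy) hdis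

end K48.IndecAlg
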