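import Groth.Agent.Coherent.K48.UniformSub

/-!
# Injective objects are direct sums of indecomposable injective objects
(Grothendieck categories with a detecting family of Noetherian objects)
-/

set_option autoImplicit false

universe w v u

namespace K48.IndecDecomp

open CategoryTheory Category Limits ZeroObject Groth.Agent.Sga5.SubElt K48.UniformSub

variable {C : Type u} [Category.{v} C] [Abelian C]

lemma Indec.of_iso {A B : C} (e : A ≅ B) (h : Indec A) : Indec B :=
  ⟨fun hB => h.1 (hB.of_iso e), fun A₁ A₂ ⟨t⟩ => h.2 A₁ A₂ ⟨e ≪≫ t⟩⟩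

lemma ne_bot_of_mono {X A : C} (f : A ⟶ X) [Mono f] (hA : ¬ IsZero A) : Subobject.mk f ≠ ⊥ := by
  intro h
  apply hA
  have h1 : (Subobject.mk f).Factors f := (mk_factors_iff _ _).mpr ⟨𝟙 _, id_comp _⟩
  rw [h, bot_factors_iff] at h1
  rw [IsZero.iff_id_eq_zero, ← cancel_mono f, h1, comp_zero, comp_zero]

variable {ν : Type*} (G : ν → C)
  (hG : ∀ {A X : C} (p : A ⟶ X) [Mono p], (∀ (i : ν) (g : G i ⟶ X), ∃ t, t ≫ p = g) → IsIso p)
  [IsGrothendieckAbelian.{w} C] [∀ i, IsNoetherianObject (G i)]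

include hG in
/-- A nonzero injective object has a nonzero indecomposable injective subobject. -/
theorem exists_indec {X : C} [Injective X] (hX : ¬ IsZero X) :
    ∃ E : Subobject X, Injective (E : C) ∧ Indec (E : C) := by
  have hmod := Groth.Agent.Cohder.SubobjLattice.isModularLattice X
  obtain ⟨P, hP0, hP⟩ := exists_uniform.{w} G hG hX
  obtain ⟨D, -, hDP, hDmax⟩ := exists_maximal_disjoint.{w} G hG P ⊥ (bot_inf_eq _)
  obtain ⟨E, hPE, hED, hEmax⟩ := exists_maximal_disjoint.{w} G hG D P (by rwa [inf_comm])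
  obtain ⟨r, hr⟩ := exists_retraction hPE hDmax hED hEmax
  have hess : ∀ B : Subobject X, B ≤ E → B ⊓ P = ⊥ → B = ⊥ := by
    intro B hBE hBP
    have h1 : (B ⊔ D) ⊓ E ≤ B := by
      calc (B ⊔ D) ⊓ E ≤ B ⊔ D ⊓ E := (sup_inf_assoc_of_le D hBE).le
        _ = B := by rw [inf_comm D E, hED, sup_bot_eq]
    have h2 : (B ⊔ D) ⊓ P = ⊥ := by
      rw [eq_bot_iff]
      calc (B ⊔ D) ⊓ P ≤ ((B ⊔ D) ⊓ E) ⊓ P :=
            le_inf (le_inf inf_le_left (inf_le_right.trans hPE)) inf_le_right
        _ ≤ B ⊓ P := inf_le_inf_right _ h1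
        _ = ⊥ := hBP
    have h3 : B ≤ D := le_sup_left.trans (hDmax _ le_sup_right h2)
    rw [eq_bot_iff, ← hED]
    exact le_inf hBE h3
  refine ⟨E, (⟨E.arrow, r, hr⟩ : Retract (E : C) X).injective, ?_, ?_⟩
  · intro h0
    apply hP0
    rw [eq_bot_iff, le_iff]
    intro T x hx
    rw [bot_factors_iff]
    have hx' : E.Factors x := Subobject.factors_of_le x hPE hx
    rw [← Subobject.factorThru_arrow E x hx', h0.eq_of_tgt (E.factorThru x hx') 0, zero_comp]
  · rintro A₁ A₂ ⟨t⟩
    by_contra hcon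
    push Not at hcon
    have m₁ : Mono (biprod.inl ≫ t.inv ≫ E.arrow : A₁ ⟶ X) := mono_comp _ _
    have m₂ : Mono (biprod.inr ≫ t.inv ≫ E.arrow : A₂ ⟶ X) := mono_comp _ _
    let B₁ : Subobject X := Subobject.mk (biprod.inl ≫ t.inv ≫ E.arrow : A₁ ⟶ X)
    let B₂ : Subobject X := Subobject.mk (biprod.inr ≫ t.inv ≫ E.arrow : A₂ ⟶ X)
    have hB₁ : B₁ ≤ E := by
      rw [le_iff]
      intro T x hx
      obtain ⟨y, rfl⟩ := (mk_factors_iff _ _).mp hx
      have h1 : y ≫ biprod.inl ≫ t.inv ≫ E.arrow = (y ≫ biprod.inl ≫ t.inv) ≫ E.arrow := by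
        simp only [assoc]
      rw [h1]
      exact Subobject.factors_comp_arrow _
    have hB₂ : B₂ ≤ E := by
      rw [le_iff]
      intro T x hx
      obtain ⟨y, rfl⟩ := (mk_factors_iff _ _).mp hx
      have h1 : y ≫ biprod.inr ≫ t.inv ≫ E.arrow = (y ≫ biprod.inr ≫ t.inv) ≫ E.arrow := by
        simp only [assoc]
      rw [h1]
      exact Subobject.factors_comp_arrow _
    have h12 : B₁ ⊓ B₂ = ⊥ := by
      rw [eq_bot_iff, le_iff]
      intro T x hx
      rw [inf_factors_iff, mk_factors_iff, mk_factors_iff] at hx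
      obtain ⟨⟨y, hy⟩, ⟨z, hz⟩⟩ := hx
      rw [bot_factors_iff]
      have h1 : y ≫ biprod.inl = z ≫ biprod.inr := by
        rw [← cancel_mono (t.inv ≫ E.arrow)]
        simp only [assoc] at hy hz ⊢
        exact hy.trans hz.symm
      have h2 : y = 0 := by
        have h3 := h1 =≫ biprod.fst
        simpa using h3
      rw [← hy, h2, zero_comp]
    refine hP (B₁ ⊓ P) (B₂ ⊓ P) inf_le_right inf_le_right ?_ ?_ ?_
    · exact fun h => ne_bot_of_mono _ hcon.1 (hess B₁ hB₁ h)
    · exact fun h => ne_bot_of_mono _ hcon.2 (hess B₂ hB₂ h)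
    · rw [eq_bot_iff, ← h12]
      exact le_inf (inf_le_left.trans inf_le_left) (inf_le_right.trans inf_le_left)

include hG in
/-- Every injective object is a direct sum of indecomposable injective objects. -/
theorem exists_decomposition (I : C) [Injective I] :
    ∃ (ι : Type w) (J : ι → C), (∀ i, Injective (J i)) ∧ (∀ i, Indec (J i)) ∧
      Nonempty (I ≅ ∐ J) := by
  let e := equivShrink.{w} (Subobject I)
  let κ : Type w := {s : Shrink.{w} (Subobject I) //
    Injective ((e.symm s : Subobject I) : C) ∧ Indec ((e.symm s : Subobject I) : C)}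
  let a : ∀ k : κ, ((e.symm k.1 : Subobject I) : C) ⟶ I := fun k => (e.symm k.1).arrow
  obtain ⟨S, hS, hmax⟩ := IndepZorn.exists_maximal a G hG
  have hinj : Injective (IndepZorn.sum a S) :=
    NoethInj.injective_coproduct.{w} G hG _ fun k => k.1.2.1
  let r : I ⟶ IndepZorn.sum a S := Injective.factorThru (𝟙 _) (IndepZorn.desc a S)
  have hr : IndepZorn.desc a S ≫ r = 𝟙 _ := Injective.comp_factorThru _ _
  have hθ : r ≫ IndepZorn.desc a S = 𝟙 I := by
    by_contra hθ0
    let θ : I ⟶ I := 𝟙 I - r ≫ IndepZorn.desc a S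
    have hθ0' : θ ≠ 0 := fun h => hθ0 (sub_eq_zero.mp h).symm
    have hθr : θ ≫ r = 0 := by
      simp only [θ, Preadditive.sub_comp, id_comp, assoc, hr, comp_id, sub_self]
    have hkθ : kernel.ι r ≫ θ = kernel.ι r := by
      simp only [θ, Preadditive.comp_sub, comp_id, kernel.condition_assoc, zero_comp, sub_zero]
    let R : Retract (kernel r) I :=
      { i := kernel.ι r
        r := kernel.lift r θ hθr
        retract := by rw [← cancel_mono (kernel.ι r), assoc, kernel.lift_ι, hkθ, id_comp] }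
    have hK : Injective (kernel r) := R.injective
    have hK0 : ¬ IsZero (kernel r) := by
      intro h0
      apply hθ0'
      rw [← kernel.lift_ι r θ hθr, h0.eq_of_tgt (kernel.lift r θ hθr) 0, zero_comp]
    obtain ⟨E, hE1, hE2⟩ := exists_indec.{w} G hG hK0
    let φ : (E : C) ⟶ I := E.arrow ≫ kernel.ι r
    have hφr : φ ≫ r = 0 := by rw [assoc, kernel.condition, comp_zero]
    have hφm : Mono φ := mono_comp _ _
    let t : (E : C) ≅ ((Subobject.mk φ : Subobject I) : C) := (Subobject.underlyingIso φ).symm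
    have key : ∀ s : Subobject I, s = Subobject.mk φ →
        (Injective (s : C) ∧ Indec (s : C)) ∧ s.arrow ≫ r = 0 := by
      rintro _ rfl
      refine ⟨⟨Injective.of_iso t hE1, Indec.of_iso t hE2⟩, ?_⟩
      rw [← Subobject.underlyingIso_hom_comp_eq_mk, assoc, hφr, comp_zero]
    let k₀ : κ := ⟨e (Subobject.mk φ), (key _ (Equiv.symm_apply_apply _ _)).1⟩
    have h1 : a k₀ ≫ r = 0 := (key _ (Equiv.symm_apply_apply _ _)).2
    have h2 : Mono (a k₀) := inferInstanceAs (Mono (Subobject.arrow _))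
    have hk₀ : k₀ ∉ S := by
      intro hk
      have h3 : IndepZorn.inj a k₀ hk = 0 := by
        rw [← comp_id (IndepZorn.inj a k₀ hk), ← hr, ← assoc, IndepZorn.inj_desc]
        exact h1
      have h4 : a k₀ = 0 := by
        have h5 := IndepZorn.inj_desc a k₀ hk
        rw [h3, zero_comp] at h5
        exact h5.symm
      apply k₀.2.2.1
      rw [IsZero.iff_id_eq_zero, ← cancel_mono (a k₀), h4, comp_zero, comp_zero]
    have hT := IndepZorn.mono_insert a r hr k₀ h2 h1 hk₀
    exact hk₀ (hmax _ (Set.subset_insert k₀ S) hT (Set.mem_insert k₀ S))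
  exact ⟨S, fun k => ((e.symm k.1.1 : Subobject I) : C), fun k => k.1.2.1, fun k => k.1.2.2,
    ⟨⟨r, IndepZorn.desc a S, hθ, hr⟩⟩⟩

end K48.IndecDecomp
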