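import Groth.Agent.Coherent.K48.NoethInj
import Mathlib.Data.Set.Finite.Lattice
import Mathlib.Order.Zorn

/-!
# Maximal independent families in Grothendieck categories with a detecting family of Noetherian
objects
-/

set_option autoImplicit false

universe w v u

namespace K48.IndepZorn

open CategoryTheory Category Limits ZeroObject

variable {C : Type u} [Category.{v} C] [Abelian C] [IsGrothendieckAbelian.{w} C]

omit [IsGrothendieckAbelian.{w} C] in
/-- Monomorphisms can be tested on a detecting family. -/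
lemma mono_of_forall {ν : Type*} (G : ν → C)
    (hG : ∀ {A X : C} (p : A ⟶ X) [Mono p], (∀ (i : ν) (g : G i ⟶ X), ∃ t, t ≫ p = g) → IsIso p)
    {X Y : C} (f : X ⟶ Y) (h : ∀ (i : ν) (g : G i ⟶ X), g ≫ f = 0 → g = 0) : Mono f := by
  have h0 : Mono (0 : (0 : C) ⟶ kernel f) := ⟨fun _ _ _ => (isZero_zero C).eq_of_tgt _ _⟩
  have h1 : IsIso (0 : (0 : C) ⟶ kernel f) := by
    apply hG
    intro i g
    refine ⟨0, ?_⟩
    have h2 : g ≫ kernel.ι f = 0 := h i _ (by rw [assoc, kernel.condition, comp_zero])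
    rw [zero_comp, ← cancel_mono (kernel.ι f), h2, zero_comp]
  rw [Preadditive.mono_iff_isZero_kernel]
  exact (isZero_zero C).of_iso (asIso (0 : (0 : C) ⟶ kernel f)).symm

section Family

variable {κ : Type w} {J : κ → C} {I : C} (a : ∀ k, J k ⟶ I)

/-- The sum of the family over `S`. -/
noncomputable abbrev sum (_ : ∀ k, J k ⟶ I) (S : Set κ) : C := ∐ fun k : S => J k.1

/-- The map from the sum of the family over `S`. -/
noncomputable def desc (S : Set κ) : sum a S ⟶ I := Sigma.desc fun k : S => a k.1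

/-- The inclusion of the summand `k`. -/
noncomputable def inj {S : Set κ} (k : κ) (hk : k ∈ S) : J k ⟶ sum a S :=
  Sigma.ι (fun k : S => J k.1) ⟨k, hk⟩

@[reassoc (attr := simp)]
lemma inj_desc {S : Set κ} (k : κ) (hk : k ∈ S) : inj a k hk ≫ desc a S = a k := by
  simp [inj, desc]

lemma hom_ext {S : Set κ} {Z : C} {f g : sum a S ⟶ Z}
    (h : ∀ k (hk : k ∈ S), inj a k hk ≫ f = inj a k hk ≫ g) : f = g :=
  Sigma.hom_ext _ _ fun k => h k.1 k.2

/-- The inclusion of a subfamily. -/
noncomputable def inc {S T : Set κ} (h : S ⊆ T) : sum a S ⟶ sum a T :=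
  Sigma.desc fun k : S => inj a k.1 (h k.2)

@[reassoc (attr := simp)]
lemma inj_inc {S T : Set κ} (h : S ⊆ T) (k : κ) (hk : k ∈ S) :
    inj a k hk ≫ inc a h = inj a k (h hk) := by
  simp [inj, inc]

@[reassoc (attr := simp)]
lemma inc_desc {S T : Set κ} (h : S ⊆ T) : inc a h ≫ desc a T = desc a S := by
  apply hom_ext
  intro k hk
  simp

@[reassoc (attr := simp)]
lemma inc_inc {S T W : Set κ} (h : S ⊆ T) (h' : T ⊆ W) :
    inc a h ≫ inc a h' = inc a (h.trans h') := by
  apply hom_ext
  intro k hk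
  simp

open Classical in
/-- The retraction onto a subfamily. -/
noncomputable def ret {S T : Set κ} (_ : S ⊆ T) : sum a T ⟶ sum a S :=
  Sigma.desc fun k : T => if hk : k.1 ∈ S then inj a k.1 hk else 0

lemma inj_ret_of_mem {S T : Set κ} (h : S ⊆ T) (k : κ) (hk : k ∈ S) :
    inj a k (h hk) ≫ ret a h = inj a k hk := by
  simp [inj, ret, hk]

lemma inj_ret_of_notMem {S T : Set κ} (h : S ⊆ T) (k : κ) (hk : k ∈ T) (hk' : k ∉ S) :
    inj a k hk ≫ ret a h = 0 := by
  simp [inj, ret, hk']

@[reassoc (attr := simp)]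
lemma inc_ret {S T : Set κ} (h : S ⊆ T) : inc a h ≫ ret a h = 𝟙 _ := by
  apply hom_ext
  intro k hk
  rw [inj_inc_assoc, inj_ret_of_mem, comp_id]

/-- A morphism from a Noetherian object to the sum factors through a finite subset. -/
lemma exists_finite {X : C} [IsNoetherianObject X] {S : Set κ} (z : X ⟶ sum a S) :
    ∃ (F : Set κ) (_ : F.Finite) (hF : F ⊆ S) (y : X ⟶ sum a F), z = y ≫ inc a hF := by
  classical
  obtain ⟨T, y, rfl⟩ := NoethInj.exists_factor_coproduct (fun k : S => J k.1) z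
  have hmem : ∀ s : T, s.1.as.1 ∈ (fun x : Discrete S => x.as.1) '' (T : Set (Discrete S)) :=
    fun s => Set.mem_image_of_mem _ s.2
  have hsub : (fun x : Discrete S => x.as.1) '' (T : Set (Discrete S)) ⊆ S := by
    rintro _ ⟨x, _, rfl⟩
    exact x.as.2
  refine ⟨_, T.finite_toSet.image _, hsub, y ≫ Sigma.desc (fun s => inj a s.1.as.1 (hmem s)), ?_⟩
  rw [assoc]
  congr 1
  apply Sigma.hom_ext
  intro s
  rw [Sigma.ι_desc, Sigma.ι_desc_assoc, inj_inc]
  rfl

/-- Zorn: there is a maximal independent subfamily. -/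
theorem exists_maximal {ν : Type*} (G : ν → C) [∀ i, IsNoetherianObject (G i)]
    (hG : ∀ {A X : C} (p : A ⟶ X) [Mono p], (∀ (i : ν) (g : G i ⟶ X), ∃ t, t ≫ p = g) → IsIso p) :
    ∃ S : Set κ, Mono (desc a S) ∧ ∀ T : Set κ, S ⊆ T → Mono (desc a T) → T ⊆ S := by
  obtain ⟨S, -, hS⟩ := zorn_subset_nonempty {S : Set κ | Mono (desc a S)} (by
    intro c hc hchain hne
    refine ⟨⋃₀ c, ?_, fun s hs => Set.subset_sUnion_of_mem hs⟩
    refine mono_of_forall G hG _ fun i g hg => ?_
    obtain ⟨F, hF, hFS, y, rfl⟩ := exists_finite a g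
    obtain ⟨t, ht, hFt⟩ := hchain.directedOn.exists_mem_subset_of_finite_of_subset_sUnion
      hne hF hFS
    have h1 : Mono (desc a t) := hc ht
    have h2 : y ≫ inc a hFt = 0 := by
      rw [← cancel_mono (desc a t), zero_comp, assoc, inc_desc]
      rwa [assoc, inc_desc] at hg
    rw [← inc_inc a hFt (Set.subset_sUnion_of_mem ht), reassoc_of% h2, zero_comp]) ∅ (by
    refine ⟨fun {Z} f g _ => ?_⟩
    have h0 : IsZero (sum a (∅ : Set κ)) := by
      rw [IsZero.iff_id_eq_zero]
      apply hom_ext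
      intro k hk
      exact hk.elim
    exact h0.eq_of_tgt _ _)
  exact ⟨S, hS.prop, fun T hST hT => hS.le_of_ge hT hST⟩

/-- If a retraction `r` of `desc a S` kills the monomorphism `a k`, then `insert k S` is
independent. -/
lemma mono_insert {S : Set κ} (r : I ⟶ sum a S) (hr : desc a S ≫ r = 𝟙 _) (k : κ) (hk : Mono (a k))
    (hkr : a k ≫ r = 0) (hkS : k ∉ S) : Mono (desc a (insert k S)) := by
  classical
  have hS : S ⊆ insert k S := Set.subset_insert k S
  -- the projection to the summand `k`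
  let p : sum a (insert k S) ⟶ J k :=
    Sigma.desc fun l : (insert k S : Set κ) => if h : l.1 = k then eqToHom (by rw [h]) else 0
  have hp1 : inj a k (Set.mem_insert k S) ≫ p = 𝟙 _ := by simp [inj, p]
  have hp2 : ∀ l (hl : l ∈ S), inj a l (hS hl) ≫ p = 0 := by
    intro l hl
    have : l ≠ k := fun h => hkS (h ▸ hl)
    simp [inj, p, this]
  have hid : ret a hS ≫ inc a hS + p ≫ inj a k (Set.mem_insert k S) = 𝟙 _ := by
    apply hom_ext
    intro l hl
    rw [Preadditive.comp_add, comp_id]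
    rcases Set.mem_insert_iff.mp hl with rfl | hl'
    · rw [← assoc, inj_ret_of_notMem a hS l hl hkS, zero_comp, ← assoc, hp1, id_comp, zero_add]
    · rw [← assoc, inj_ret_of_mem a hS l hl', inj_inc, ← assoc, hp2 l hl', zero_comp, add_zero]
  have hdesc : desc a (insert k S) = ret a hS ≫ desc a S + p ≫ a k := by
    rw [← id_comp (desc a (insert k S)), ← hid, Preadditive.add_comp, assoc, assoc, inc_desc,
      inj_desc]
  refine Preadditive.mono_of_cancel_zero _ fun {Z} g hg => ?_
  rw [hdesc, Preadditive.comp_add] at hg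
  have h1 : g ≫ ret a hS = 0 := by
    have h2 := congrArg (· ≫ r) hg
    simp only [Preadditive.add_comp, assoc, hr, hkr, comp_id, comp_zero, add_zero, zero_comp] at h2
    exact h2
  rw [← assoc, h1, zero_comp, zero_add, ← assoc] at hg
  have h3 : g ≫ p = 0 := by rw [← cancel_mono (a k), hg, zero_comp]
  rw [← comp_id g, ← hid, Preadditive.comp_add, ← assoc, h1, zero_comp, zero_add, ← assoc, h3,
    zero_comp]

end Family

end K48.IndepZorn
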