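import Groth.Agent.Coherent.K48.IdealGen
import Groth.Agent.Coherent.K48.InjLocal
import Groth.Agent.Sga5.NoethObj
import Mathlib.CategoryTheory.Subobject.NoetherianObject

/-!
# The structure sheaf of a Noetherian scheme is a Noetherian object of `X.Modules`
-/

set_option autoImplicit false

universe u

open CategoryTheory CategoryTheory.Limits AlgebraicGeometry TopologicalSpace

namespace K48.NoethOX

open Groth.Agent.Ega1.SubSheaf
open Groth.Agent.CycB.ModStalk (germ_smul)
open K48.IdealGen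

variable {X : Scheme.{u}} {M : X.Modules}

/-- The section `a` of `M` lies in the subobject `P`. -/
def Mem (P : Subobject M) {U : X.Opens} (a : Γ(M, U)) : Prop :=
  ∃ s : Γ((P : X.Modules), U), P.arrow.app U s = a

lemma Mem.of_le {P Q : Subobject M} (h : P ≤ Q) {U : X.Opens} {a : Γ(M, U)} (ha : Mem P a) :
    Mem Q a := by
  obtain ⟨s, rfl⟩ := ha
  refine ⟨(Subobject.ofLE P Q h).app U s, ?_⟩
  have : Subobject.ofLE P Q h ≫ Q.arrow = P.arrow := Subobject.ofLE_arrow h
  exact congr($(congr_arg (fun z : (P : X.Modules) ⟶ M => z.app U) this) s)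

lemma Mem.restr {P : Subobject M} {U V : X.Opens} (h : V ≤ U) {a : Γ(M, U)} (ha : Mem P a) :
    Mem P (res M h a) := by
  obtain ⟨s, rfl⟩ := ha
  exact ⟨res _ h s, app_res _ h s⟩

lemma Mem.zero (P : Subobject M) (U : X.Opens) : Mem P (0 : Γ(M, U)) := ⟨0, map_zero _⟩

lemma Mem.add {P : Subobject M} {U : X.Opens} {a b : Γ(M, U)} (ha : Mem P a) (hb : Mem P b) :
    Mem P (a + b) := by
  obtain ⟨s, rfl⟩ := ha
  obtain ⟨t, rfl⟩ := hb
  exact ⟨s + t, map_add _ _ _⟩

lemma Mem.smul {P : Subobject M} {U : X.Opens} (r : Γ(X, U)) {a : Γ(M, U)} (ha : Mem P a) :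
    Mem P (r • a) := by
  obtain ⟨s, rfl⟩ := ha
  exact ⟨r • s, app_smul' _ r s⟩

lemma app_arrow_injective (P : Subobject M) (U : X.Opens) : Function.Injective (P.arrow.app U) :=
  (mono_iff_injective P.arrow).1 inferInstance U

lemma Mem.of_local {P : Subobject M} {U : X.Opens} (a : Γ(M, U))
    (h : ∀ x ∈ U, ∃ (V : X.Opens) (hV : V ≤ U), x ∈ V ∧ Mem P (res M hV a)) : Mem P a := by
  choose V hV hx s hs using h
  obtain ⟨t, ht⟩ := exists_glue (P : X.Modules) (U := U) (fun x : U => V x.1 x.2)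
    (fun x => hV x.1 x.2) (fun x hx' => ⟨⟨x, hx'⟩, hx x hx'⟩) (fun x => s x.1 x.2) (fun x y => by
      apply app_arrow_injective P
      rw [app_res, app_res, hs, hs, res_res, res_res])
  refine ⟨t, section_ext M _ _ fun x hx' => ⟨V x hx', hV x hx', hx x hx', ?_⟩⟩
  rw [← app_res, ht ⟨x, hx'⟩, hs]

lemma le_of_mem {P Q : Subobject M} (h : ∀ (U : X.Opens) (a : Γ(M, U)), Mem P a → Mem Q a) :
    P ≤ Q := by
  obtain ⟨g, hg⟩ := exists_lift P.arrow Q.arrow (fun U s => h U _ ⟨s, rfl⟩)
  exact Subobject.le_of_comm g hg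

variable (f : ℕ →o Subobject M)

/-- The union of a chain of subobjects. -/
def union : Sub M where
  obj U :=
    { carrier := {a | ∀ x ∈ U, ∃ (V : X.Opens) (hV : V ≤ U), x ∈ V ∧ ∃ n, Mem (f n) (res M hV a)}
      add_mem' := by
        intro a b ha hb x hx
        obtain ⟨V, hV, hxV, n, h⟩ := ha x hx
        obtain ⟨V', hV', hxV', n', h'⟩ := hb x hx
        refine ⟨V ⊓ V', inf_le_left.trans hV, ⟨hxV, hxV'⟩, max n n', ?_⟩
        rw [map_add, ← res_res M hV inf_le_left, ← res_res M hV' inf_le_right]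
        exact ((h.restr inf_le_left).of_le (f.monotone (le_max_left _ _))).add
          ((h'.restr inf_le_right).of_le (f.monotone (le_max_right _ _)))
      zero_mem' := fun x hx => ⟨U, le_rfl, hx, 0, by
        have : res M (le_refl U) (0 : Γ(M, U)) = 0 := map_zero _
        rw [this]; exact Mem.zero _ _⟩
      smul_mem' := by
        intro r a ha x hx
        obtain ⟨V, hV, hxV, n, h⟩ := ha x hx
        refine ⟨V, hV, hxV, n, ?_⟩
        rw [res_smul]
        exact h.smul _ }
  map_mem {U V} h s hs x hx := by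
    obtain ⟨W, hW, hxW, n, h'⟩ := hs x (h hx)
    refine ⟨W ⊓ V, inf_le_right, ⟨hxW, hx⟩, n, ?_⟩
    rw [res_res, ← res_res M hW (inf_le_left : W ⊓ V ≤ W)]
    exact h'.restr _
  local_mem {U} s h x hx := by
    obtain ⟨V, hV, hxV, hs⟩ := h x hx
    obtain ⟨W, hW, hxW, n, h'⟩ := hs x hxV
    refine ⟨W, hW.trans hV, hxW, n, ?_⟩
    rwa [res_res] at h'

lemma mem_union_iff {U : X.Opens} (a : Γ(M, U)) : a ∈ (union f).obj U ↔
    ∀ x ∈ U, ∃ (V : X.Opens) (hV : V ≤ U), x ∈ V ∧ ∃ n, Mem (f n) (res M hV a) := Iff.rfl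

lemma mem_union_of_mem {U : X.Opens} {a : Γ(M, U)} {n : ℕ} (h : Mem (f n) a) :
    a ∈ (union f).obj U := fun x hx => ⟨U, le_rfl, hx, n, by rwa [res_self]⟩

/-- Over a quasi-compact open a section of the union lies in a member of the chain. -/
lemma exists_mem_of_mem_union {U : X.Opens} (hU : IsCompact (U : Set X)) {a : Γ(M, U)}
    (h : a ∈ (union f).obj U) : ∃ n, Mem (f n) a := by
  have key : ∃ n, ∀ x ∈ (U : Set X), x ∈ U → ∃ (V : X.Opens) (hV : V ≤ U), x ∈ V ∧
      Mem (f n) (res M hV a) := by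
    refine hU.induction_on (p := fun T => ∃ n, ∀ x ∈ T, x ∈ U → ∃ (V : X.Opens) (hV : V ≤ U),
      x ∈ V ∧ Mem (f n) (res M hV a)) ⟨0, fun x hx => hx.elim⟩ ?_ ?_ ?_
    · rintro s t hst ⟨n, hn⟩
      exact ⟨n, fun x hx => hn x (hst hx)⟩
    · rintro s t ⟨n, hn⟩ ⟨m, hm⟩
      refine ⟨max n m, fun x hx hxU => ?_⟩
      rcases hx with hx | hx
      · obtain ⟨V, hV, hxV, h⟩ := hn x hx hxU
        exact ⟨V, hV, hxV, h.of_le (f.monotone (le_max_left _ _))⟩
      · obtain ⟨V, hV, hxV, h⟩ := hm x hx hxU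
        exact ⟨V, hV, hxV, h.of_le (f.monotone (le_max_right _ _))⟩
    · intro x hx
      obtain ⟨V, hV, hxV, n, h⟩ := h x hx
      exact ⟨V, mem_nhdsWithin_of_mem_nhds (V.2.mem_nhds hxV), n, fun y hy _ => ⟨V, hV, hy, h⟩⟩
  obtain ⟨n, hn⟩ := key
  exact ⟨n, Mem.of_local a fun x hx => hn x hx hx⟩

/-- If the stalks of the union of a chain are generated by finitely many local sections over quasi-compact
opens, the chain is stationary. -/
lemma stationary_of_finGen (hX : ∀ U : X.Opens, IsCompact (U : Set X))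
    (h : FinGen (union f).toModules (Set.univ : Set X)) : ∃ n, ∀ m, n ≤ m → f n = f m := by
  obtain ⟨S, hS, hgen⟩ := h
  have h1 : ∀ p : Σ U : X.Opens, Γ((union f).toModules, U), ∃ n, Mem (f n) ((union f).ι.app p.1 p.2) :=
    fun p => exists_mem_of_mem_union f (hX p.1) ((union f).ι_app_mem p.2)
  choose n hn using h1
  obtain ⟨n₀, hn₀⟩ := (hS.image n).bddAbove
  have h2 : ∀ p ∈ S, Mem (f n₀) ((union f).ι.app p.1 p.2) := fun p hp =>
    (hn p).of_le (f.monotone (hn₀ ⟨p, hp, rfl⟩))
  refine ⟨n₀, fun m hm => le_antisymm (f.monotone hm) (le_of_mem fun U a ha => ?_)⟩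
  refine Mem.of_local a fun x hx => ?_
  -- the germs of sections which lie in `f n₀`
  have h3 : ∀ t ∈ Gen S x, ∃ (V : X.Opens) (hxV : x ∈ V) (s : Γ((union f).toModules, V)),
      (union f).toModules.presheaf.germ V x hxV s = t ∧ Mem (f n₀) ((union f).ι.app V s) := by
    intro t ht
    refine Submodule.span_induction (p := fun t _ => ∃ (V : X.Opens) (hxV : x ∈ V)
      (s : Γ((union f).toModules, V)), (union f).toModules.presheaf.germ V x hxV s = t ∧
        Mem (f n₀) ((union f).ι.app V s)) ?_ ?_ ?_ ?_ ht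
    · rintro _ ⟨p, hp, hy, rfl⟩
      exact ⟨p.1, hy, p.2, rfl, h2 p hp⟩
    · exact ⟨⊤, trivial, 0, map_zero _, by rw [map_zero]; exact Mem.zero _ _⟩
    · rintro _ _ _ _ ⟨V, hV, s, rfl, hs⟩ ⟨V', hV', s', rfl, hs'⟩
      refine ⟨V ⊓ V', ⟨hV, hV'⟩, res _ inf_le_left s + res _ inf_le_right s', ?_, ?_⟩
      · rw [map_add]
        congr 1
        · exact (union f).toModules.presheaf.germ_res_apply _ x _ _
        · exact (union f).toModules.presheaf.germ_res_apply _ x _ _
      · rw [map_add, app_res, app_res]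
        exact (hs.restr _).add (hs'.restr _)
    · rintro r _ _ ⟨V, hV, s, rfl, hs⟩
      obtain ⟨V', hV', r, rfl⟩ : ∃ (V' : X.Opens) (hV' : x ∈ V') (r' : Γ(X, V')),
          X.presheaf.germ V' x hV' r' = r := X.presheaf.exists_germ_eq r
      have hVV : x ∈ V ⊓ V' := ⟨hV, hV'⟩
      refine ⟨V ⊓ V', hVV, X.presheaf.map (homOfLE (inf_le_right : V ⊓ V' ≤ V')).op r •
        res _ (inf_le_left : V ⊓ V' ≤ V) s, ?_, ?_⟩
      · refine (germ_smul _ _ _ _ _ _).trans ?_
        congr 1
        · exact X.presheaf.germ_res_apply _ x _ _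
        · exact (union f).toModules.presheaf.germ_res_apply _ x _ _
      · rw [app_smul', app_res]
        exact (hs.restr _).smul _
  have ha' : a ∈ (union f).obj U := mem_union_of_mem f ha
  obtain ⟨V, hxV, s, hs, hsn⟩ := h3
    ((union f).toModules.presheaf.germ U x hx ((union f).sec a ha')) (by rw [hgen x trivial]; trivial)
  obtain ⟨W, hxW, i, j, e⟩ := (union f).toModules.presheaf.germ_eq x hxV hx _ _ hs
  refine ⟨W, leOfHom j, hxW, ?_⟩
  have h4 : res M (leOfHom j) a =
      (union f).ι.app W (res _ (leOfHom i) s) := by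
    rw [show res _ (leOfHom i) s = res _ (leOfHom j) ((union f).sec a ha') from e,
      app_res, Sub.ι_app_sec]
  rw [h4, app_res]
  exact hsn.restr _

/-- The structure sheaf of a Noetherian scheme is a Noetherian object. -/
theorem isNoetherianObject_structureModule (X : Scheme.{u}) [IsNoetherian X] :
    IsNoetherianObject (Coh.structureModule X) := by
  rw [isNoetherianObject_iff_monotone_chain_condition]
  intro f
  exact stationary_of_finGen f (fun U => NoetherianSpace.isCompact _)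
    (finGen_univ (union f).ι)

end K48.NoethOX
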