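import Groth.Agent.PerfA.OUTF

/-!
# Extending a section to a morphism into an injective module
-/

set_option autoImplicit false
universe u
open CategoryTheory CategoryTheory.Limits AlgebraicGeometry Opposite TopologicalSpace

namespace K48.OUExt

open Groth.Agent.PerfC.ExtZero Groth.Agent.PerfA.TFMV Groth.Agent.PerfA.ExtZero
  Groth.Agent.PerfA.OUTF

variable {X : Scheme.{u}} (U : X.Opens)

lemma inv_hom_app (V : X.Opens) (t : Γ(OU U, V)) :
    (Groth.Agent.PerfA.OUTF.iso U).inv.app V ((Groth.Agent.PerfA.OUTF.iso U).hom.app V t) = t := by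
  have h := congrArg (fun f => f.app V t) (Groth.Agent.PerfA.OUTF.iso U).hom_inv_id
  exact h

lemma locZero_OU (V : X.Opens) (t : Γ(OU U, V)) : LocZero U (OU U) V t := by
  rw [← inv_hom_app U V t]
  exact LocZero.app _ (suppIn_T U _ V _)

lemma eq_smul_gen {W : X.Opens} (hW : W ≤ U) (t : Γ(OU U, W)) :
    ∃ r : Γ(X, W), t = r • (OU U).presheaf.map (homOfLE hW).op (gen U) := by
  obtain ⟨r, hr⟩ := eq_smul_s₀ U hW ((Groth.Agent.PerfA.OUTF.iso U).hom.app W t)
  refine ⟨r, ?_⟩
  rw [← inv_hom_app U W t, hr, Scheme.Modules.Hom.app_smul]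
  congr 1
  rw [← app_map]
  congr 1
  have h1 : s₀ U = (Groth.Agent.PerfA.OUTF.iso U).hom.app U (gen U) :=
    (desc_app_gen (s₀ U)).symm
  rw [h1, inv_hom_app]

/-- The kernel of `desc m₁` is killed by `desc m₂` if all relations of `m₁` are relations of
`m₂`. -/
lemma kernel_desc {M₁ M₂ : X.Modules} (m₁ : Γ(M₁, U)) (m₂ : Γ(M₂, U))
    (h : ∀ (W : X.Opens) (hW : W ≤ U) (r : Γ(X, W)),
      r • M₁.presheaf.map (homOfLE hW).op m₁ = 0 → r • M₂.presheaf.map (homOfLE hW).op m₂ = 0) :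
    kernel.ι (desc m₁) ≫ desc m₂ = 0 := by
  ext V s
  have hk : (desc m₁).app V ((kernel.ι (desc m₁)).app V s) = 0 := by
    have h1 := congrArg (fun f => f.app V s) (kernel.condition (desc m₁))
    exact h1
  have hl : LocZero U M₂ V ((kernel.ι (desc m₁) ≫ desc m₂).app V s) :=
    LocZero.app (desc m₂) (locZero_OU U V _)
  refine eq_zero_of_locZero U hl (inf_le_left : V ⊓ U ≤ V) le_rfl ?_
  change M₂.presheaf.map _ ((desc m₂).app V ((kernel.ι (desc m₁)).app V s)) = 0
  rw [app_map]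
  obtain ⟨r, hr⟩ := eq_smul_gen U (inf_le_right : V ⊓ U ≤ U)
    ((OU U).presheaf.map (homOfLE (inf_le_left : V ⊓ U ≤ V)).op ((kernel.ι (desc m₁)).app V s))
  have h2 : r • M₁.presheaf.map (homOfLE (inf_le_right : V ⊓ U ≤ U)).op m₁ = 0 := by
    have h3 := congrArg ((desc m₁).app (V ⊓ U)) hr
    rw [← app_map, hk, map_zero, Scheme.Modules.Hom.app_smul, ← app_map, desc_app_gen] at h3
    exact h3.symm
  have h4 := h (V ⊓ U) inf_le_right r h2
  have h5 := congrArg ((desc m₂).app (V ⊓ U)) hr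
  rw [Scheme.Modules.Hom.app_smul, ← app_map (desc m₂) inf_le_right (gen U), desc_app_gen] at h5
  exact h5.trans h4

/-- A section `m₂` of an injective module satisfying all relations of `m₁` is the image of `m₁`
under a morphism. -/
theorem exists_hom {M₁ M₂ : X.Modules} [Injective M₂] (m₁ : Γ(M₁, U)) (m₂ : Γ(M₂, U))
    (h : ∀ (W : X.Opens) (hW : W ≤ U) (r : Γ(X, W)),
      r • M₁.presheaf.map (homOfLE hW).op m₁ = 0 → r • M₂.presheaf.map (homOfLE hW).op m₂ = 0) :
    ∃ φ : M₁ ⟶ M₂, φ.app U m₁ = m₂ := by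
  let d : Abelian.coimage (desc m₁) ⟶ M₂ := cokernel.desc _ (desc m₂) (kernel_desc U m₁ m₂ h)
  refine ⟨Injective.factorThru d (Abelian.factorThruCoimage (desc m₁)), ?_⟩
  have h1 : desc m₁ ≫ Injective.factorThru d (Abelian.factorThruCoimage (desc m₁)) = desc m₂ := by
    have h2 := Abelian.coimage.fac (desc m₁) =≫
      Injective.factorThru d (Abelian.factorThruCoimage (desc m₁))
    rw [Category.assoc, Injective.comp_factorThru] at h2
    exact h2.symm.trans (cokernel.π_desc _ _ _)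
  rw [desc_comp] at h1
  exact desc_injective h1

end K48.OUExt
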