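import Groth.Agent.Coherent.K48.SkyEmb
import Groth.Agent.Coherent.K48.InjLocal
import Groth.Agent.PerfB.QCohLocal
import Groth.Agent.Ega1.QcqsPush
import Groth.Agent.Localalg.InjHull

/-!
# Quasi-coherent modules on locally Noetherian schemes embed into quasi-coherent modules which are
injective in the category of all modules
-/

set_option autoImplicit false
universe u
open CategoryTheory CategoryTheory.Limits AlgebraicGeometry Opposite TopologicalSpace

namespace K48.QCohEmb

open Groth.Agent.Fdesc.Skyscraper Groth.Agent.Ega1.SubSheaf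

variable {X : Scheme.{u}}

theorem isQCoh_coproduct {ι : Type u} (F : ι → X.Modules) (hF : ∀ i, Coh.IsQCoh (F i)) :
    Coh.IsQCoh (∐ F) :=
  Groth.Agent.PerfB.QCohLocal.isQCoh_of_isColimit (Discrete.functor F) (fun i => hF i.as) _
    (colimit.isColimit (Discrete.functor F))

section Hull

variable (x : X)

lemma exists_hull : ∃ (E : Type u) (_ : AddCommGroup E) (_ : Module (X.presheaf.stalk x) E)
    (i : IsLocalRing.ResidueField (X.presheaf.stalk x) →ₗ[X.presheaf.stalk x] E),
    InjHull.IsInjectiveHull i :=
  Groth.Agent.Localalg.InjHull.exists_injective_hull _ _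

/-- The injective hull of the residue field at `x`. -/
def Hull : Type u := (exists_hull x).choose

noncomputable instance : AddCommGroup (Hull x) := (exists_hull x).choose_spec.choose

noncomputable instance : Module (X.presheaf.stalk x) (Hull x) :=
  (exists_hull x).choose_spec.choose_spec.choose

/-- The hull. -/
noncomputable def hull :
    IsLocalRing.ResidueField (X.presheaf.stalk x) →ₗ[X.presheaf.stalk x] Hull x :=
  (exists_hull x).choose_spec.choose_spec.choose_spec.choose

lemma isInjectiveHull_hull : InjHull.IsInjectiveHull (hull x) :=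
  (exists_hull x).choose_spec.choose_spec.choose_spec.choose_spec

/-- The indecomposable quasi-coherent injective module at `x`. -/
noncomputable def inj : X.Modules := sky x (Hull x)

instance injective_inj : Injective (inj x) :=
  SkyHull.injective_sky x _ (isInjectiveHull_hull x).isInjective

theorem isQCoh_sky [IsLocallyNoetherian X] {E : Type u} [AddCommGroup E] [Module (X.presheaf.stalk x) E]
    (i : IsLocalRing.ResidueField (X.presheaf.stalk x) →ₗ[X.presheaf.stalk x] E)
    (hi : InjHull.IsEssentialInj i) : Coh.IsQCoh (sky x E) := by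
  have hn : IsNoetherianRing (X.presheaf.stalk x) := inferInstance
  have h1 : QuasiCompact (X.fromSpecStalk x) := quasiCompact_of_noetherianSpace_source _
  have h2 : QuasiSeparated (X.fromSpecStalk x) := inferInstance
  have h3 : Coh.IsQCoh (SkyHull.push x (ModuleCat.of _ E)) := by
    refine Groth.Agent.Ega1.QcqsPush.isQCoh_pushforward (X.fromSpecStalk x) _ ?_
    exact (inferInstance : (tilde (ModuleCat.of (X.presheaf.stalk x) E)).IsQuasicoherent)
  have h4 := SkyHull.isIso_toSkyscraper x (ModuleCat.of _ E)
    (fun e => Groth.Agent.S1750.exists_pow_smul_eq_zero i hi e)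
  exact Groth.Agent.PerfB.QCohLocal.isQCoh_of_iso
    (asIso (SkyHull.toSkyscraper x (ModuleCat.of _ E))) h3

lemma isQCoh_inj [IsLocallyNoetherian X] : Coh.IsQCoh (inj x) := isQCoh_sky x (hull x) (isInjectiveHull_hull x).toIsEssentialInj

end Hull

variable [IsLocallyNoetherian X]

/-- Every quasi-coherent module embeds into a quasi-coherent module which is a direct sum of
modules `inj x`, in particular injective in the category of all modules. -/
theorem exists_mono (F : X.Modules) (hF : Coh.IsQCoh F) :
    ∃ (ι : Type u) (p : ι → X) (j : F ⟶ ∐ fun k => inj (p k)), Mono j := by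
  have := InjLocal.isGrothendieckAbelian X
  have hN : ∀ U : X.affineOpens, IsNoetherianObject (Groth.Agent.PerfA.ExtZero.OU U.1) :=
    fun U => NoethShriek.isNoetherianObject_OU X U.1 U.2.isCompact
  let I : X.Modules := Injective.under F
  let f : F ⟶ I := Injective.ι F
  -- the family of all morphisms from the modules `inj x`
  let κ : Type u := Σ x : X, (inj x ⟶ I)
  let a : ∀ k : κ, inj k.1 ⟶ I := fun k => k.2
  obtain ⟨S, hS, hmax⟩ := IndepZorn.exists_maximal a
    (fun U : X.affineOpens => Groth.Agent.PerfA.ExtZero.OU U.1)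
    (fun p _ h => NoethShriek.isIso_of_affine p h)
  have hinj : Injective (IndepZorn.sum a S) :=
    NoethShriek.injective_coproduct X _ fun k => inferInstance
  let r : I ⟶ IndepZorn.sum a S := Injective.factorThru (𝟙 _) (IndepZorn.desc a S)
  have hr : IndepZorn.desc a S ≫ r = 𝟙 _ := Injective.comp_factorThru _ _
  refine ⟨S, fun k => k.1.1, f ≫ r, ?_⟩
  rw [Groth.Agent.Ega1.SubSheaf.mono_iff_injective]
  intro V
  rw [injective_iff_map_eq_zero]
  intro s hs
  by_contra hs0
  -- a nonzero section over an affine open
  obtain ⟨W, hWV, hW, hn⟩ : ∃ (W : X.Opens) (h : W ≤ V), IsAffineOpen W ∧ res F h s ≠ 0 := by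
    by_contra hcon
    push Not at hcon
    apply hs0
    refine section_ext F s 0 fun y hy => ?_
    obtain ⟨W, hW, hyW, hWV⟩ := exists_isAffineOpen_mem_and_subset hy
    exact ⟨W, hWV, hyW, (hcon W hWV hW).trans (map_zero _).symm⟩
  obtain ⟨c, x, hx, h1, h2⟩ := SkyEmb.exists_associated F hF hW (res F hWV s) hn
  have hfr : (f ≫ r).app W (c • res F hWV s) = 0 := by
    rw [Scheme.Modules.Hom.app_smul, app_res, hs, map_zero, smul_zero]
  let m : Γ(I, W) := f.app W (c • res F hWV s)
  have hm1 : ∀ b : Γ(X, W), ¬ IsUnit (X.presheaf.germ W x hx b) → b • m = 0 := by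
    intro b hb
    change b • f.app W _ = 0
    rw [← Scheme.Modules.Hom.app_smul, h1 b hb, map_zero]
  have hm2 : I.presheaf.germ W x hx m ≠ 0 := by
    intro h0
    apply h2
    apply SkyHull.stalkMap_injective x f
    rw [stalkMap_germ, map_zero]
    exact h0
  have hrm : r.app W m = 0 := hfr
  obtain ⟨φ₀, hφ₀⟩ := SkyEmb.exists_mono hW hx (hull x) (isInjectiveHull_hull x).toIsEssentialInj
    (N := I) m hm1
  let θ : I ⟶ I := 𝟙 I - r ≫ IndepZorn.desc a S
  have hθr : θ ≫ r = 0 := by
    simp only [θ, Preadditive.sub_comp, Category.id_comp, Category.assoc, hr, Category.comp_id,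
      sub_self]
  let φ : inj x ⟶ I := φ₀ ≫ θ
  have hφ : φ.app W (SkyEmb.const (hull x 1) W) = m := by
    change θ.app W (φ₀.app W (SkyEmb.const (hull x 1) W)) = m
    rw [hφ₀]
    change m - (IndepZorn.desc a S).app W (r.app W m) = m
    rw [hrm, map_zero, sub_zero]
  have hφm : Mono φ := SkyEmb.mono_of_germ_ne_zero (hull x) (isInjectiveHull_hull x).toIsEssentialInj
    φ hx m hφ hm2
  have hφr : φ ≫ r = 0 := by
    change (φ₀ ≫ θ) ≫ r = 0
    rw [Category.assoc, hθr, comp_zero]
  let k₀ : κ := ⟨x, φ⟩
  have hk₀ : k₀ ∉ S := by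
    intro hk
    have h3 : IndepZorn.inj a k₀ hk = 0 := by
      rw [← Category.comp_id (IndepZorn.inj a k₀ hk), ← hr, ← Category.assoc,
        IndepZorn.inj_desc]
      exact hφr
    have h4 : φ = 0 := by
      have h5 := IndepZorn.inj_desc a k₀ hk
      rw [h3, zero_comp] at h5
      exact h5.symm
    apply hm2
    rw [← hφ, h4]
    exact map_zero _
  have hT := IndepZorn.mono_insert a r hr k₀ hφm hφr hk₀
  exact hk₀ (hmax _ (Set.subset_insert k₀ S) hT (Set.mem_insert k₀ S))

/-- Every quasi-coherent module embeds into a quasi-coherent module which is injective in the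
category of all modules. -/
theorem exists_mono_injective (F : X.Modules) (hF : Coh.IsQCoh F) :
    ∃ (G : X.Modules) (j : F ⟶ G), Mono j ∧ Injective G ∧ Coh.IsQCoh G := by
  obtain ⟨ι, p, j, hj⟩ := exists_mono F hF
  exact ⟨_, j, hj, NoethShriek.injective_coproduct X _ fun k => inferInstance,
    isQCoh_coproduct _ fun k => isQCoh_inj _⟩

/-- An injective object of the category of quasi-coherent modules is injective in the category of
all modules. -/
theorem injective_of_qcoh (J : ObjectProperty.FullSubcategory (fun M : X.Modules => Coh.IsQCoh M))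
    (hJ : Injective J) : Injective J.obj := by
  obtain ⟨G, j, hj, hG, hGq⟩ := exists_mono_injective J.obj J.property
  let G' : ObjectProperty.FullSubcategory (fun M : X.Modules => Coh.IsQCoh M) := ⟨G, hGq⟩
  let j' : J ⟶ G' := ObjectProperty.homMk j
  have : Mono j' := (ObjectProperty.ι _).mono_of_mono_map (f := j') hj
  obtain ⟨r, hr⟩ := hJ.factors (𝟙 J) j'
  let R : Retract J.obj G :=
    { i := j
      r := r.hom
      retract := congrArg (ObjectProperty.ι _).map hr }
  exact R.injective

end K48.QCohEmb
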