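import Groth.Agent.Coherent.K48.StalkExt
import Groth.Agent.ModSite.K293.StalkCmp
import Groth.Agent.Fdesc.Skyscraper
import Groth.Agent.Coherent.K48.ExtRestr

/-!
# Stalks of modules on a scheme: at the point of the space and at the point of the site
-/

set_option autoImplicit false
universe u
open CategoryTheory CategoryTheory.Limits AlgebraicGeometry TopologicalSpace Opposite

namespace K48.SiteStalk

open K292.Germ K293.StalkCmp Groth.Agent.Fdesc.Skyscraper K48.StalkExt

variable {X : Scheme.{u}} (x : X)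

/-- The local ring at the point of the site. -/
noncomputable abbrev R' : Type u := ModSite.stalkRing (Opens.pointGrothendieckTopology x) X.sheaf

/-- The module structure on the stalk. -/
noncomputable local instance instMod (M : X.Modules) : Module (R' x) (ModSite.stalkAb (pt x) (O := X.sheaf) M) :=
  ModSite.moduleStalk (pt x) (O := X.sheaf) M

/-- The stalk of a module at the point of the site. -/
noncomputable abbrev St' (M : X.Modules) : ModuleCat.{u} (R' x) :=
  ModSite.stalkMod (O := X.sheaf) (pt x) M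

/-- The comparison of the local rings. -/
noncomputable def σ : R' x ≃+* X.presheaf.stalk x := (cmpEquiv X.sheaf x).symm

lemma σ_symm_germ {U : X.Opens} (hx : x ∈ U) (r : Γ(X, U)) :
    (σ x).symm (X.presheaf.germ U x hx r) = gr X.sheaf x hx r :=
  cmp_germ X.sheaf x hx r

lemma exists_σ_symm (r : R' x) : ∃ a : X.presheaf.stalk x, (σ x).symm a = r :=
  ⟨σ x r, (σ x).symm_apply_apply r⟩

variable (M : X.Modules)

/-- The comparison of the stalks of a module. -/
noncomputable def cAdd : M.presheaf.stalk x →+ ModSite.stalkAb (pt x) (O := X.sheaf) M :=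
  stalkDesc M.presheaf x (ModSite.stalkAb (pt x) (O := X.sheaf) M)
    (fun _ hU =>
      { toFun := fun s => ge (O := X.sheaf) M x hU s
        map_zero' := ge_zero (O := X.sheaf) M x hU
        map_add' := fun s t => ge_add (O := X.sheaf) M x hU s t })
    (fun _ _ i hU s => ge_rs (O := X.sheaf) M x (leOfHom i) hU s)

lemma cAdd_germ {U : X.Opens} (hU : x ∈ U) (s : Γ(M, U)) :
    cAdd x M (M.presheaf.germ U x hU s) = ge (O := X.sheaf) M x hU s :=
  stalkDesc_germ _ _ _ _ _ U hU s

lemma cAdd_bijective : Function.Bijective (cAdd x M) := by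
  constructor
  · rw [injective_iff_map_eq_zero]
    intro a ha
    obtain ⟨U, hU, s, rfl⟩ := M.presheaf.exists_germ_eq a
    rw [cAdd_germ] at ha
    obtain ⟨V, hV, hxV, h⟩ := (ge_eq_iff (O := X.sheaf) M x hU s 0).1
      (ha.trans (ge_zero (O := X.sheaf) M x hU).symm)
    have h1 : M.presheaf.map (homOfLE hV).op s = 0 := h.trans (map_zero (M.presheaf.map (homOfLE hV).op).hom)
    rw [← TopCat.Presheaf.germ_res_apply M.presheaf (homOfLE hV) x hxV s]
    exact (congrArg _ h1).trans (map_zero _)
  · intro a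
    obtain ⟨U, hU, s, rfl⟩ := exists_ge (O := X.sheaf) M x a
    exact ⟨M.presheaf.germ U x hU s, cAdd_germ x M hU s⟩

lemma cAdd_smul (a : X.presheaf.stalk x) (m : M.presheaf.stalk x) :
    cAdd x M (a • m) = (σ x).symm a • cAdd x M m := by
  obtain ⟨U, hU, r, rfl⟩ := X.presheaf.exists_germ_eq a
  obtain ⟨V, hV, s, rfl⟩ := M.presheaf.exists_germ_eq m
  have e1 : X.presheaf.germ U x hU r = X.presheaf.germ (U ⊓ V) x ⟨hU, hV⟩
      (X.presheaf.map (homOfLE inf_le_left).op r) :=
    (TopCat.Presheaf.germ_res_apply X.presheaf (homOfLE inf_le_left) x ⟨hU, hV⟩ r).symm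
  have e2 : M.presheaf.germ V x hV s = M.presheaf.germ (U ⊓ V) x ⟨hU, hV⟩
      (M.presheaf.map (homOfLE inf_le_right).op s) :=
    (TopCat.Presheaf.germ_res_apply M.presheaf (homOfLE inf_le_right) x ⟨hU, hV⟩ s).symm
  rw [e1, e2]
  generalize X.presheaf.map (homOfLE inf_le_left).op r = r'
  generalize M.presheaf.map (homOfLE inf_le_right).op s = s'
  have hx : x ∈ U ⊓ V := ⟨hU, hV⟩
  refine (congrArg (cAdd x M)
    (Groth.Agent.CycB.StalkExact.germ_smul x hx r' s').symm).trans ?_
  refine (cAdd_germ x M hx (r' • s')).trans ?_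
  refine (ge_smul (O := X.sheaf) M x hx r' s').trans ?_
  have e3 : (σ x).symm (X.presheaf.germ (U ⊓ V) x hx r') = gr X.sheaf x hx r' :=
    σ_symm_germ x hx r'
  exact congrArg₂ (fun (a : R' x) (t : ModSite.stalkAb (pt x) (O := X.sheaf) M) => a • t) e3.symm
    (cAdd_germ x M hx s').symm

/-- The comparison of the stalks of a module, as an isomorphism. -/
noncomputable def cIso : (E (σ x)).obj ((St x).obj M) ≅ St' x M :=
  LinearEquiv.toModuleIso (X₁ := (E (σ x)).obj ((St x).obj M))
    (X₂ := St' x M)
    (LinearEquiv.ofBijective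
      (M := (E (σ x)).obj ((St x).obj M)) (M₂ := St' x M)
      { toFun := cAdd x M
        map_add' := map_add (cAdd x M)
        map_smul' := fun r m => by
          have h := cAdd_smul x M (σ x r) m
          rw [(σ x).symm_apply_apply] at h
          exact h } (cAdd_bijective x M))

/-- Stalks (at the point of the site) of the derived functors of the sheaf Hom. -/
theorem nonempty_linearEquiv [IsLocallyNoetherian X] (F G : X.Modules) (hF : Coh.IsCoh F)
    [HasInjectiveResolutions X.Modules] (i : ℕ) :
    Nonempty (St' x (((Groth.Agent.Dcoh.MonClosed.homFunctor F).rightDerived i).obj G) ≃ₗ[R' x]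
      Abelian.Ext.{u} (St' x F) (St' x G) i) := by
  obtain ⟨e⟩ := StalkExt.nonempty_linearEquiv x (σ x) F G hF i (cIso x F) (cIso x G)
  exact ⟨(cIso x (((Groth.Agent.Dcoh.MonClosed.homFunctor F).rightDerived i).obj G)).symm.toLinearEquiv.trans e⟩

/-- Isomorphic modules have isomorphic stalks. -/
noncomputable def mapStalk {M N : X.Modules} (α : M ≅ N) : St' x M ≅ St' x N :=
  (cIso x M).symm ≪≫ (E (σ x)).mapIso ((St x).mapIso α) ≪≫ cIso x N

/-- Stalks of the Ext sheaves. -/
theorem nonempty_extSh [IsLocallyNoetherian X] (F G : X.Modules) (hF : Coh.IsCoh F)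
    [ModSite.HasSheafHom (O := X.sheaf) F] [HasInjectiveResolutions (ModSite.Mod X.sheaf)] (i : ℕ) :
    Nonempty (St' x (show X.Modules from (ModSite.extSh (O := X.sheaf) F i).obj G) ≃ₗ[R' x]
      Abelian.Ext.{u} (St' x F) (St' x G) i) := by
  have := Groth.Agent.Dcoh.DerSch.hasInjectiveResolutions X
  obtain ⟨e⟩ := nonempty_linearEquiv x F G hF i
  exact ⟨(mapStalk x (ExtRestr.extShIso F i G)).toLinearEquiv.trans e⟩

end K48.SiteStalk
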