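import Groth.Agent.Fdesc.Skyscraper
import Groth.Agent.CycB.StalkExact
import Mathlib.AlgebraicGeometry.Modules.Tilde

/-!
# Skyscraper modules with injective value are injective; `E^~` for `E` torsion over a local ring
pushes forward to the skyscraper module.
-/

set_option autoImplicit false

universe u

open CategoryTheory CategoryTheory.Limits AlgebraicGeometry TopologicalSpace Opposite

namespace K48.SkyHull

open Groth.Agent.Fdesc.Skyscraper

section Sky

variable {X : Scheme.{u}} (x : X)

/-- `stalkMap` of a monomorphism is injective. -/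
lemma stalkMap_injective {M N : X.Modules} (φ : M ⟶ N) [Mono φ] :
    Function.Injective (stalkMap φ x) := by
  have h := Groth.Agent.CycB.StalkExact.stalkLin_injective φ x
  have e : ∀ m, stalkMap φ x m = Groth.Agent.CycB.StalkExact.stalkLin φ x m := by
    intro m
    obtain ⟨U, hU, s, rfl⟩ := TopCat.Presheaf.exists_germ_eq M.presheaf m
    rw [stalkMap_germ]
    exact (Groth.Agent.CycB.StalkExact.stalkLin_germ φ x hU s).symm
  intro a b hab
  exact h (by rw [← e, ← e, hab])

/-- The skyscraper module of an injective module is injective. -/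
theorem injective_sky (Q : Type u) [AddCommGroup Q] [Module (X.presheaf.stalk x) Q]
    (hQ : Module.Injective (X.presheaf.stalk x) Q) : Injective (sky x Q) := by
  refine ⟨fun {A B} g f _ => ?_⟩
  obtain ⟨h, hh⟩ := hQ.out (stalkMap f x) (stalkMap_injective x f) (ofSky g)
  refine ⟨toSky h, ?_⟩
  apply (skyEquiv (x := x) (Q := Q) A).injective
  change ofSky (f ≫ toSky h) = ofSky g
  ext t
  obtain ⟨U, hU, s, rfl⟩ := TopCat.Presheaf.exists_germ_eq A.presheaf t
  rw [ofSky_germ, ← hh, stalkMap_germ]
  exact toSky_app_apply h U (f.app U s) ⟨hU⟩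

end Sky

section Local

variable (R : CommRingCat.{u}) [IsLocalRing R] (E : ModuleCat.{u} R)

set_option backward.isDefEq.respectTransparency.types false in
/-- Stalks of `E^~` at non-closed points vanish for torsion `E`. -/
lemma subsingleton_stalk
    (hE : ∀ e : E, ∃ n : ℕ, ∀ a ∈ IsLocalRing.maximalIdeal R ^ n, a • e = 0)
    (y : PrimeSpectrum.Top R) (hy' : ¬ (IsLocalRing.maximalIdeal R ≤ y.asIdeal)) :
    Subsingleton ((tilde E).presheaf.stalk y) := by
  have hz : ∀ a : (tilde E).presheaf.stalk y, a = 0 := by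
    intro a
    obtain ⟨⟨e, c⟩, hc⟩ := IsLocalizedModule.surj y.asIdeal.primeCompl (tilde.toStalk E y).hom a
    obtain ⟨n, hn⟩ := hE e
    obtain ⟨r, hr, hry⟩ := SetLike.not_le_iff_exists.mp hy'
    have h1 : (tilde.toStalk E y).hom e = 0 := by
      apply (IsLocalizedModule.eq_zero_iff y.asIdeal.primeCompl (tilde.toStalk E y).hom).mpr
      exact ⟨⟨r ^ n, fun h => hry (y.isPrime.mem_of_pow_mem _ h)⟩,
        hn _ (Ideal.pow_mem_pow hr n)⟩
    apply IsLocalizedModule.smul_injective (tilde.toStalk E y).hom c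
    dsimp at hc ⊢
    rw [hc, h1, smul_zero]
  exact ⟨fun a b => by rw [hz a, hz b]⟩

/-- The sections of `E^~` over an open set missing the closed point are zero for `E` torsion. -/
lemma subsingleton_sections
    (hE : ∀ e : E, ∃ n : ℕ, ∀ a ∈ IsLocalRing.maximalIdeal R ^ n, a • e = 0)
    (W : (Spec R).Opens) (hW : IsLocalRing.closedPoint R ∉ W) :
    Subsingleton Γ(tilde E, W) := by
  refine ⟨fun s t => ?_⟩
  refine TopCat.Presheaf.section_ext ⟨(tilde E).presheaf, (tilde E).isSheaf⟩ W s t fun y hy => ?_
  have hsub : Subsingleton ((tilde E).presheaf.stalk y) := by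
    apply subsingleton_stalk R E hE
    intro h
    apply hW
    have : y = IsLocalRing.closedPoint R := by
      apply PrimeSpectrum.ext
      exact ((IsLocalRing.maximalIdeal.isMaximal R).eq_of_le
        (PrimeSpectrum.isPrime y).ne_top h).symm
    exact this ▸ hy
  exact Subsingleton.elim _ _

omit [IsLocalRing R] in
/-- Restriction to the whole space is linear. -/
lemma res_top_smul (M : (Spec R).Modules) (W : (Spec R).Opens) (hW : ⊤ ≤ W) (r : R)
    (s : Γ(M, W)) :
    M.presheaf.map (homOfLE hW).op
      (((Spec R).presheaf.map (homOfLE le_top).op ((Scheme.ΓSpecIso R).inv r) :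
        Γ(Spec R, W)) • s) = r • M.presheaf.map (homOfLE hW).op s :=
  Scheme.Modules.map_smul_Spec (M := M) (homOfLE hW).op r s

end Local

/-- Restriction maps compose. -/
lemma map_map_eq {T : TopCat.{u}} (F : TopCat.Presheaf Ab.{u} T) {U V W : (Opens T)ᵒᵖ}
    (a : U ⟶ V) (b : V ⟶ W) (c : U ⟶ W) (s : F.obj U) : F.map b (F.map a s) = F.map c s := by
  rw [← ConcreteCategory.comp_apply, ← Functor.map_comp]
  rfl

lemma push_map {X Y : Scheme.{u}} (f : X ⟶ Y) (M : X.Modules) (U V : Y.Opens) (i : U ⟶ V)
    (W : X.Opens) (hU : W ≤ f ⁻¹ᵁ U) (hV : W ≤ f ⁻¹ᵁ V) (s : Γ(M, f ⁻¹ᵁ V)) :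
    M.presheaf.map (homOfLE hU).op (M.presheaf.map ((Opens.map f.base).map i).op s) =
      M.presheaf.map (homOfLE hV).op s :=
  map_map_eq M.presheaf ((Opens.map f.base).map i).op (homOfLE hU).op (homOfLE hV).op s

lemma push_map' {X Y : Scheme.{u}} (f : X ⟶ Y) (M : X.Modules) (U V : Y.Opens) (i : U ⟶ V)
    (W : X.Opens) (hU : W ≤ f ⁻¹ᵁ U) (hV : W ≤ f ⁻¹ᵁ V)
    (s : Γ((Scheme.Modules.pushforward f).obj M, V)) :
    M.presheaf.map (homOfLE hU).op (((Scheme.Modules.pushforward f).obj M).presheaf.map i.op s) =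
      M.presheaf.map (homOfLE hV).op s := push_map f M U V i W hU hV s

section Top

variable {R : CommRingCat.{u}} (E : ModuleCat.{u} R)

/-- `Γ(E^~, ⊤) → E` -/
noncomputable def topInv : Γ(tilde E, ⊤) →+ E := (tilde.isoTop E).inv.hom.toAddMonoidHom

lemma topInv_smul (r : R) (s : Γ(tilde E, ⊤)) : topInv E (r • s) = r • topInv E s :=
  (tilde.isoTop E).inv.hom.map_smul r s

lemma topInv_bijective : Function.Bijective (topInv E) :=
  (ConcreteCategory.isIso_iff_bijective (tilde.isoTop E).inv).mp inferInstance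

end Top

section Push

variable {X : Scheme.{u}} (x : X) (E : ModuleCat.{u} (X.presheaf.stalk x))

/-- The preimage of an open containing `x` under `Spec O_{X,x} ⟶ X` is everything. -/
lemma top_le_preimage (U : X.Opens) (hU : x ∈ U) : ⊤ ≤ X.fromSpecStalk x ⁻¹ᵁ U := by
  intro y _
  change X.fromSpecStalk x y ∈ U
  have h : X.fromSpecStalk x y ∈ Set.range (X.fromSpecStalk x) := ⟨y, rfl⟩
  rw [Scheme.range_fromSpecStalk] at h
  exact h.mem_open U.2 hU

/-- The pushforward of `E^~` to `X`. -/
noncomputable abbrev push : X.Modules :=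
  (Scheme.Modules.pushforward (X.fromSpecStalk x)).obj (tilde E)

/-- Restriction to `⊤`. -/
noncomputable def resTop (U : X.Opens) (hU : x ∈ U) : Γ(push x E, U) →+ Γ(tilde E, ⊤) :=
  ((tilde E).presheaf.map (homOfLE (top_le_preimage x U hU)).op).hom

lemma resTop_bijective (U : X.Opens) (hU : x ∈ U) : Function.Bijective (resTop x E U hU) := by
  have h2 : IsIso (homOfLE (top_le_preimage x U hU)) := by
    refine ⟨homOfLE le_top, ?_, ?_⟩ <;> exact Subsingleton.elim _ _
  exact (ConcreteCategory.isIso_iff_bijective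
      ((tilde E).presheaf.map (homOfLE (top_le_preimage x U hU)).op)).mp inferInstance

lemma resTop_map (U V : X.Opens) (i : U ⟶ V) (hU : x ∈ U) (s : Γ(push x E, V)) :
    resTop x E U hU ((push x E).presheaf.map i.op s) = resTop x E V (leOfHom i hU) s :=
  push_map' (X.fromSpecStalk x) (tilde E) U V i ⊤ (top_le_preimage x U hU)
    (top_le_preimage x V (leOfHom i hU)) s

lemma resTop_smul (U : X.Opens) (hU : x ∈ U) (r : Γ(X, U)) (s : Γ(push x E, U)) :
    resTop x E U hU (r • s) = X.presheaf.germ U x hU r • resTop x E U hU s := by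
  have h0 : (X.fromSpecStalk x).app U r = (Spec (X.presheaf.stalk x)).presheaf.map
      (homOfLE le_top).op ((Scheme.ΓSpecIso (X.presheaf.stalk x)).inv
        (X.presheaf.germ U x hU r)) := by
    rw [Scheme.fromSpecStalk_app hU]
    simp only [ConcreteCategory.comp_apply]
  have h1 : (tilde E).presheaf.map (homOfLE (top_le_preimage x U hU)).op
      ((X.fromSpecStalk x).app U r • (show Γ(tilde E, X.fromSpecStalk x ⁻¹ᵁ U) from s)) =
      (X.presheaf.germ U x hU r) •
        (tilde E).presheaf.map (homOfLE (top_le_preimage x U hU)).op s := by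
    rw [h0]
    exact res_top_smul (X.presheaf.stalk x) (tilde E) _ (top_le_preimage x U hU) _ s
  exact h1

/-- The sections of the pushforward of `E^~` over a neighbourhood of `x` are `E`. -/
noncomputable def secHom (U : X.Opens) (hU : x ∈ U) : Γ(push x E, U) →+ E :=
  (topInv E).comp (resTop x E U hU)

lemma secHom_apply (U : X.Opens) (hU : x ∈ U) (s : Γ(push x E, U)) :
    secHom x E U hU s = topInv E (resTop x E U hU s) := rfl

lemma secHom_bijective (U : X.Opens) (hU : x ∈ U) : Function.Bijective (secHom x E U hU) :=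
  (topInv_bijective E).comp (resTop_bijective x E U hU)

lemma secHom_map (U V : X.Opens) (i : U ⟶ V) (hU : x ∈ U) (s : Γ(push x E, V)) :
    secHom x E U hU ((push x E).presheaf.map i.op s) = secHom x E V (leOfHom i hU) s :=
  congrArg (topInv E) (resTop_map x E U V i hU s)

lemma secHom_smul (U : X.Opens) (hU : x ∈ U) (r : Γ(X, U)) (s : Γ(push x E, U)) :
    secHom x E U hU (r • s) = X.presheaf.germ U x hU r • secHom x E U hU s :=
  (congrArg (topInv E) (resTop_smul x E U hU r s)).trans (topInv_smul E _ _)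

/-- The morphism from the pushforward of `E^~` to the skyscraper module. -/
noncomputable def toSkyscraper : push x E ⟶ sky x E :=
  toSky (stalkDescₗ (push x E).val x E (secHom x E) (secHom_map x E) (secHom_smul x E))

lemma toSkyscraper_app (U : X.Opens) (hU : x ∈ U) (s : Γ(push x E, U)) :
    ((toSkyscraper x E).app U s : Sec x E U) ⟨hU⟩ = secHom x E U hU s := by
  refine (toSky_app_apply _ U s ⟨hU⟩).trans ?_
  exact stalkDescₗ_germ (push x E).val x E _ _ _ U hU s

theorem isIso_toSkyscraper
    (hE : ∀ e : E, ∃ n : ℕ, ∀ a ∈ IsLocalRing.maximalIdeal (X.presheaf.stalk x) ^ n, a • e = 0) :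
    IsIso (toSkyscraper x E) := by
  rw [Scheme.Modules.Hom.isIso_iff_isIso_app]
  intro U
  rw [ConcreteCategory.isIso_iff_bijective]
  by_cases hU : x ∈ U
  · have hb := secHom_bijective x E U hU
    constructor
    · intro s t hst
      apply hb.1
      rw [← toSkyscraper_app x E U hU s, ← toSkyscraper_app x E U hU t]
      exact congrFun (hst : ((toSkyscraper x E).app U s : Sec x E U) = _) ⟨hU⟩
    · intro t
      obtain ⟨s, hs⟩ := hb.2 ((t : Sec x E U) ⟨hU⟩)
      refine ⟨s, ?_⟩
      refine (funext fun h => ?_ : ((toSkyscraper x E).app U s : Sec x E U) = t)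
      exact (toSkyscraper_app x E U hU s).trans hs
  · have h1 : Subsingleton Γ(push x E, U) := by
      refine subsingleton_sections (X.presheaf.stalk x) E hE (X.fromSpecStalk x ⁻¹ᵁ U) ?_
      intro h
      apply hU
      have : X.fromSpecStalk x (IsLocalRing.closedPoint (X.presheaf.stalk x)) ∈ U := h
      rwa [Scheme.fromSpecStalk_closedPoint] at this
    have h2 : Subsingleton (Sec x E U) := ⟨fun a b => funext fun h => absurd h.down hU⟩
    exact ⟨fun a b _ => h1.elim a b, fun b => ⟨0, h2.elim _ _⟩⟩

/-- The pushforward of `E^~` is injective, for `E` injective and torsion. -/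
theorem injective_push
    (hE : ∀ e : E, ∃ n : ℕ, ∀ a ∈ IsLocalRing.maximalIdeal (X.presheaf.stalk x) ^ n, a • e = 0)
    (hi : Module.Injective (X.presheaf.stalk x) E) : Injective (push x E) := by
  have := isIso_toSkyscraper x E hE
  have := injective_sky x E hi
  exact Injective.of_iso (asIso (toSkyscraper x E)).symm inferInstance

end Push

end K48.SkyHull
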