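import Groth.Agent.Coherent.K48.OUExt
import Groth.Agent.Coherent.K48.SkyHull
import Groth.Agent.Coherent.K48.IndepZorn
import Groth.Agent.Coherent.K48.NoethShriek
import Groth.Agent.Ega1.SubSheaf
import Groth.Agent.Divis.StalkMod
import Groth.Agent.S1750

/-!
# Skyscrapers of injective hulls inside injective modules
-/

set_option autoImplicit false
universe u
open CategoryTheory CategoryTheory.Limits AlgebraicGeometry Opposite TopologicalSpace

namespace K48.SkyEmb

open Groth.Agent.Fdesc.Skyscraper Groth.Agent.Ega1.SubSheaf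

variable {X : Scheme.{u}}

section Mono

variable {x : X} {E : Type u} [AddCommGroup E] [Module (X.presheaf.stalk x) E]
  (i : IsLocalRing.ResidueField (X.presheaf.stalk x) →ₗ[X.presheaf.stalk x] E)

/-- The constant section. -/
noncomputable def const (e : E) (U : X.Opens) : Γ(sky x E, U) := (fun _ => e : Sec x E U)

lemma map_const (e : E) {U V : X.Opens} (h : V ≤ U) :
    (sky x E).presheaf.map (homOfLE h).op (const e U) = const e V := rfl

/-- Every nonzero element of an essential extension of the residue field has a multiple equal to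
the generator. -/
lemma exists_smul_eq (hi : InjHull.IsEssentialInj i) (k : E) (hk : k ≠ 0) :
    ∃ r : X.presheaf.stalk x, r • k = i 1 := by
  have h1 := hi.essential (Submodule.span _ {k}) (by simpa [Submodule.span_singleton_eq_bot] using hk)
  obtain ⟨z, ⟨hz1, c, rfl⟩, hz0⟩ := Submodule.exists_mem_ne_zero_of_ne_bot h1
  obtain ⟨r, hr⟩ := Submodule.mem_span_singleton.mp hz1
  have hc : c ≠ 0 := fun h => hz0 (by rw [h, map_zero])
  obtain ⟨b, hb⟩ := IsLocalRing.residue_surjective c⁻¹
  refine ⟨b * r, ?_⟩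
  rw [mul_smul, hr, ← map_smul, Algebra.smul_def, IsLocalRing.ResidueField.algebraMap_eq, hb,
    inv_mul_cancel₀ hc]

lemma smul_one_eq_zero (hi : Function.Injective i) (r : X.presheaf.stalk x) (h : r • i 1 = 0) :
    ¬ IsUnit r := by
  rintro hr
  obtain ⟨u, rfl⟩ := hr
  have h1 : i 1 = 0 := by
    have h2 := congrArg (fun z => (↑u⁻¹ : X.presheaf.stalk x) • z) h
    simpa [smul_smul] using h2
  have h2 : (1 : IsLocalRing.ResidueField (X.presheaf.stalk x)) = 0 :=
    hi (h1.trans (map_zero i).symm)
  exact one_ne_zero h2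

/-- A morphism out of the skyscraper is a monomorphism if it does not kill the generator. -/
theorem mono_of_germ_ne_zero (hi : InjHull.IsEssentialInj i) {N : X.Modules} (φ : sky x E ⟶ N)
    {U : X.Opens} (hxU : x ∈ U) (m : Γ(N, U)) (hm : φ.app U (const (i 1) U) = m)
    (h0 : N.presheaf.germ U x hxU m ≠ 0) : Mono φ := by
  rw [Groth.Agent.Ega1.SubSheaf.mono_iff_injective]
  intro V
  rw [injective_iff_map_eq_zero]
  intro s hs
  refine (funext fun hV => ?_ : (s : Sec x E V) = 0)
  by_contra hk
  obtain ⟨r, hr⟩ := exists_smul_eq i hi ((s : Sec x E V) hV) hk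
  obtain ⟨W, hxW, r', hr'⟩ := TopCat.Presheaf.exists_germ_eq X.presheaf r
  let V' : X.Opens := W ⊓ (V ⊓ U)
  have hxV' : x ∈ V' := ⟨hxW, hV.down, hxU⟩
  let r'' : Γ(X, V') := X.presheaf.map (homOfLE inf_le_left).op r'
  have hr'' : X.presheaf.germ V' x hxV' r'' = r := by
    rw [← hr']
    exact TopCat.Presheaf.germ_res_apply X.presheaf (homOfLE inf_le_left) x hxV' r'
  have h1 : (r'' • (sky x E).presheaf.map
      (homOfLE (inf_le_right.trans inf_le_left : V' ≤ V)).op s) = const (i 1) V' := by
    refine (funext fun h => ?_ : (_ : Sec x E V') = _)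
    change X.presheaf.germ V' x h.down r'' • (s : Sec x E V) _ = i 1
    rw [← hr, hr'']
  have h3 : φ.app V' (const (i 1) V') = 0 := by
    have h4 : φ.app V' (r'' • (sky x E).presheaf.map
        (homOfLE (inf_le_right.trans inf_le_left : V' ≤ V)).op s) = 0 := by
      rw [Scheme.Modules.Hom.app_smul, ← Groth.Agent.PerfC.ExtZero.app_map, hs, map_zero, smul_zero]
    rw [← h4, h1]
  have h5 : N.presheaf.map (homOfLE (inf_le_right.trans inf_le_right : V' ≤ U)).op m = 0 := by
    rw [← hm, Groth.Agent.PerfC.ExtZero.app_map, map_const, h3]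
  apply h0
  rw [← TopCat.Presheaf.germ_res_apply N.presheaf
    (homOfLE (inf_le_right.trans inf_le_right : V' ≤ U)) x hxV' m]
  exact (congrArg _ h5).trans (map_zero _)

end Mono

section Affine

variable {U : X.Opens} (hU : IsAffineOpen U) {x : X} (hx : x ∈ U)

include hU in
/-- A section over an affine open killed by all functions vanishing at `x` satisfies all the
relations of the generator of the residue field. -/
lemma smul_eq_zero {N : X.Modules} (n : Γ(N, U))
    (h : ∀ a : Γ(X, U), ¬ IsUnit (X.presheaf.germ U x hx a) → a • n = 0)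
    {W : X.Opens} (hW : W ≤ U) (r : Γ(X, W))
    (hr : ∀ h' : x ∈ W, ¬ IsUnit (X.presheaf.germ W x h' r)) :
    r • N.presheaf.map (homOfLE hW).op n = 0 := by
  refine section_ext N _ _ fun y hy => ?_
  obtain ⟨g, hg, hyg⟩ := hU.exists_basicOpen_le ⟨y, hy⟩ (hW hy)
  refine ⟨X.basicOpen g, hg, hyg, ?_⟩
  have hloc := hU.isLocalization_basicOpen g
  rw [map_zero]
  change N.presheaf.map (homOfLE hg).op _ = 0
  rw [Scheme.Modules.map_smul]
  have hn : N.presheaf.map (homOfLE hg).op (N.presheaf.map (homOfLE hW).op n) =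
      N.presheaf.map (homOfLE (hg.trans hW)).op n := by
    rw [← ConcreteCategory.comp_apply, ← Functor.map_comp]
    rfl
  rw [hn]
  set ρ : Γ(X, X.basicOpen g) := X.presheaf.map (homOfLE hg).op r with hρ
  have hgu : IsUnit (X.presheaf.map (homOfLE (hg.trans hW)).op g) :=
    IsLocalization.map_units Γ(X, X.basicOpen g) (⟨g, Submonoid.mem_powers g⟩ : Submonoid.powers g)
  obtain ⟨⟨a, ⟨_, k, rfl⟩⟩, ha⟩ := IsLocalization.surj (Submonoid.powers g) ρ
  have ha' : ρ * (X.presheaf.map (homOfLE (hg.trans hW)).op g) ^ k =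
      X.presheaf.map (homOfLE (hg.trans hW)).op a := by
    rw [← map_pow]
    exact ha
  by_cases hxD : x ∈ X.basicOpen g
  · have h1 : a • n = 0 := by
      apply h
      intro hu
      have h2 : X.presheaf.germ U x hx a = X.presheaf.germ (X.basicOpen g) x hxD
          (X.presheaf.map (homOfLE (hg.trans hW)).op a) :=
        (TopCat.Presheaf.germ_res_apply X.presheaf (homOfLE (hg.trans hW)) x hxD a).symm
      rw [h2, ← ha', map_mul] at hu
      apply hr (hg hxD)
      have h3 : X.presheaf.germ W x (hg hxD) r = X.presheaf.germ (X.basicOpen g) x hxD ρ :=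
        (TopCat.Presheaf.germ_res_apply X.presheaf (homOfLE hg) x hxD r).symm
      rw [h3]
      exact isUnit_of_mul_isUnit_left hu
    have h4 : (X.presheaf.map (homOfLE (hg.trans hW)).op g) ^ k •
        (ρ • N.presheaf.map (homOfLE (hg.trans hW)).op n) = 0 := by
      rw [smul_smul, mul_comm, ha', ← Scheme.Modules.map_smul, h1, map_zero]
    exact (hgu.pow k).smul_eq_zero.mp h4
  · have h1 : g • n = 0 := by
      apply h
      rwa [← Scheme.mem_basicOpen]
    have h2 : N.presheaf.map (homOfLE (hg.trans hW)).op n = 0 := by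
      have h3 : (X.presheaf.map (homOfLE (hg.trans hW)).op g) •
          N.presheaf.map (homOfLE (hg.trans hW)).op n = 0 := by
        rw [← Scheme.Modules.map_smul, h1, map_zero]
      exact hgu.smul_eq_zero.mp h3
    rw [h2, smul_zero]

include hU in
/-- A skyscraper of the injective hull of the residue field embeds into an injective module which
has a section killed by the functions vanishing at `x` with nonzero germ. -/
theorem exists_mono {E : Type u} [AddCommGroup E] [Module (X.presheaf.stalk x) E]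
    (i : IsLocalRing.ResidueField (X.presheaf.stalk x) →ₗ[X.presheaf.stalk x] E)
    (hi : InjHull.IsEssentialInj i) {N : X.Modules} [Injective N] (n : Γ(N, U))
    (h : ∀ a : Γ(X, U), ¬ IsUnit (X.presheaf.germ U x hx a) → a • n = 0) :
    ∃ φ : sky x E ⟶ N, φ.app U (const (i 1) U) = n := by
  refine OUExt.exists_hom U (M₁ := sky x E) (const (i 1) U) n ?_
  intro W hW r hr
  refine smul_eq_zero hU hx n h hW r fun hxW => ?_
  refine smul_one_eq_zero i hi.injective _ ?_
  rw [map_const] at hr
  exact congrFun (hr : ((r • const (i 1) W : Γ(sky x E, W)) : Sec x E W) = 0) ⟨hxW⟩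

/-- Associated points: some multiple of a nonzero section of a quasi-coherent module is killed by
exactly the functions vanishing at a point `x` and has nonzero germ at `x`. -/
theorem exists_associated [IsLocallyNoetherian X] (F : X.Modules) (hF : Coh.IsQCoh F)
    {U : X.Opens} (hU : IsAffineOpen U) (n : Γ(F, U)) (hn : n ≠ 0) :
    ∃ (a : Γ(X, U)) (x : X) (hx : x ∈ U),
      (∀ b : Γ(X, U), ¬ IsUnit (X.presheaf.germ U x hx b) → b • a • n = 0) ∧
      F.presheaf.germ U x hx (a • n) ≠ 0 := by
  have hA : IsNoetherianRing Γ(X, U) := IsLocallyNoetherian.component_noetherian ⟨U, hU⟩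
  have hnt : Nontrivial (Submodule.span Γ(X, U) {n}) :=
    ⟨⟨⟨n, Submodule.mem_span_singleton_self n⟩, 0, fun h => hn (congrArg Subtype.val h)⟩⟩
  obtain ⟨p, hp⟩ := associatedPrimes.nonempty Γ(X, U) (Submodule.span Γ(X, U) {n})
  obtain ⟨hpp, ⟨y, hy⟩, hpy⟩ := isAssociatedPrime_iff.mp (AssociatedPrimes.mem_iff.mp hp)
  obtain ⟨a, rfl⟩ := Submodule.mem_span_singleton.mp hy
  have hmem : ∀ b : Γ(X, U), b ∈ p ↔ b • a • n = 0 := by
    intro b
    rw [hpy, Submodule.mem_colon_singleton, Submodule.mem_bot]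
    exact ⟨fun h => congrArg Subtype.val h, fun h => Subtype.ext h⟩
  obtain ⟨x, hx⟩ : ∃ x : U, (hU.primeIdealOf x).asIdeal = p := by
    obtain ⟨x, hx⟩ := hU.isoSpec.hom.homeomorph.surjective ⟨p, hpp⟩
    exact ⟨x, congrArg PrimeSpectrum.asIdeal hx⟩
  subst hx
  refine ⟨a, x.1, x.2, ?_, ?_⟩
  · intro b hb
    rw [← hmem]
    refine Groth.Agent.Divis.StalkMod.stalk_elim F hF hU x.1 x.2 ?_
    intro i1 i2 i3 i4 l _ h5 i5
    by_contra hb'
    apply hb
    rw [← h5]
    exact IsLocalization.map_units (X.presheaf.stalk x.1)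
      (⟨b, hb'⟩ : (hU.primeIdealOf ⟨x.1, x.2⟩).asIdeal.primeCompl)
  · refine Groth.Agent.Divis.StalkMod.stalk_elim F hF hU x.1 x.2 ?_
    intro i1 i2 i3 i4 l hl _ i5 h0
    rw [← hl, IsLocalizedModule.eq_zero_iff (hU.primeIdealOf ⟨x.1, x.2⟩).asIdeal.primeCompl] at h0
    obtain ⟨c, hc⟩ := h0
    exact c.2 ((hmem _).mpr hc)

end Affine

end K48.SkyEmb
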