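import Groth.Agent.Coherent.K48.IndecAlg
import Groth.Agent.Coherent.K48.SkyHull
import Groth.Agent.PerfC.TildeStalk
import Groth.Agent.Ega1.SubSheaf
import Groth.Agent.PerfB.ModExact

/-!
# `E^~` is an injective `O_{Spec R}`-module for `E` indecomposable injective over `R` Noetherian
-/

set_option autoImplicit false

universe u

open CategoryTheory CategoryTheory.Limits AlgebraicGeometry TopologicalSpace Opposite

namespace K48.TildeIndec

section Alg

/-- If the multiplicative set already acts bijectively, localization does nothing. -/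
lemma bijective_of_isLocalizedModule {R : Type*} [CommRing R] (S : Submonoid R) {M M' : Type*}
    [AddCommGroup M] [Module R M] [AddCommGroup M'] [Module R M'] (g : M →ₗ[R] M')
    [IsLocalizedModule S g] (h : ∀ s ∈ S, Function.Bijective (fun m : M => s • m)) :
    Function.Bijective g := by
  constructor
  · rw [injective_iff_map_eq_zero]
    intro m hm
    obtain ⟨c, hc⟩ := (IsLocalizedModule.eq_zero_iff S g).mp hm
    apply (h c c.2).1
    change (c : R) • m = (c : R) • (0 : M)
    rw [smul_zero]
    exact hc
  · intro m'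
    obtain ⟨⟨e, c⟩, hc⟩ := IsLocalizedModule.surj S g m'
    obtain ⟨e', he'⟩ := (h c c.2).2 e
    refine ⟨e', ?_⟩
    apply IsLocalizedModule.smul_injective g c
    dsimp at he' hc ⊢
    rw [hc, ← he']
    exact (g.map_smul (c : R) e').symm

/-- A module over a localization that is injective over the base is injective over the
localization. -/
lemma injective_of_isLocalization {R A : Type u} [CommRing R] [CommRing A] [Algebra R A]
    (S : Submonoid R) [IsLocalization S A] (Q : Type u) [AddCommGroup Q] [Module A Q] [Module R Q]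
    [IsScalarTower R A Q] (hQ : Module.Injective R Q) : Module.Injective A Q := by
  refine ⟨fun X Y _ _ _ _ f hf g => ?_⟩
  let : Module R X := Module.compHom X (algebraMap R A)
  let : Module R Y := Module.compHom Y (algebraMap R A)
  have : IsScalarTower R A X := IsScalarTower.of_algebraMap_smul fun _ _ => rfl
  have : IsScalarTower R A Y := IsScalarTower.of_algebraMap_smul fun _ _ => rfl
  obtain ⟨h, hh⟩ := hQ.out (f.restrictScalars R) hf (g.restrictScalars R)
  exact ⟨h.extendScalarsOfIsLocalization S A, hh⟩

end Alg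

open Groth.Agent.Fdesc.Skyscraper Groth.Agent.PerfC.TildeStalk Groth.Agent.PerfC.TildeHom

variable {R : CommRingCat.{u}} (E : Type u) [AddCommGroup E] [Module R E] (x : Spec R)

/-- `E^~` -/
noncomputable abbrev T : (Spec R).Modules := tilde (ModuleCat.of R E)

/-- `E → (E^~)_x` -/
noncomputable def st : E →ₗ[R] (SR x).obj (T (R := R) E) := (toSt x (ModuleCat.of R E)).hom

lemma germ_toOpenL (U : (Spec R).Opens) (hx : x ∈ U) (e : E) :
    (T (R := R) E).presheaf.germ U x hx (toOpenL E U e) = st E x e := by
  have h1 : toOpenL (R := R) E U e =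
    (T (R := R) E).presheaf.map (homOfLE le_top).op (toOpenL E ⊤ e) := rfl
  rw [h1]
  exact TopCat.Presheaf.germ_res_apply (T (R := R) E).presheaf (homOfLE le_top) x hx _

lemma bijective_st (h1 : ∀ f ∉ px x, Function.Bijective (fun e : E => f • e)) :
    Function.Bijective (st E x) :=
  have : IsLocalizedModule (px x).primeCompl (st E x) := isLocalizedModule_toSt x _
  bijective_of_isLocalizedModule (px x).primeCompl (st E x) h1

lemma bijective_toOpenL (h1 : ∀ f ∉ px x, Function.Bijective (fun e : E => f • e))
    (f : R) (hf : f ∉ px x) :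
    Function.Bijective (toOpenL (R := R) E (D f)) := by
  have : IsLocalizedModule (.powers f) (toOpenL (R := R) E (D f)) := isLocalizedModule_toOpen _ f
  refine bijective_of_isLocalizedModule (.powers f) (toOpenL (R := R) E (D f)) ?_
  rintro _ ⟨n, rfl⟩
  exact h1 _ fun h => hf ((PrimeSpectrum.isPrime x).mem_of_pow_mem _ h)

lemma eq_zero_of_torsion (f : R) (hf : ∀ e : E, ∃ n : ℕ, f ^ n • e = 0)
    (a : Γ(T (R := R) E, D f)) : a = 0 := by
  have : IsLocalizedModule (.powers f) (toOpenL (R := R) E (D f)) := isLocalizedModule_toOpen _ f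
  obtain ⟨⟨e, c⟩, hc⟩ := IsLocalizedModule.surj (.powers f) (toOpenL (R := R) E (D f)) a
  obtain ⟨n, hn⟩ := hf e
  have h1 : toOpenL (R := R) E (D f) e = 0 := by
    apply (IsLocalizedModule.eq_zero_iff (.powers f) (toOpenL (R := R) E (D f))).mpr
    exact ⟨⟨f ^ n, n, rfl⟩, hn⟩
  apply IsLocalizedModule.smul_injective (toOpenL (R := R) E (D f)) c
  exact (hc.trans h1).trans (smul_zero c).symm

/-- The stalk at `x` is injective over the local ring. -/
lemma injective_stalk (hE : Module.Injective R E)
    (h1 : ∀ f ∉ px x, Function.Bijective (fun e : E => f • e)) :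
    Module.Injective ((Spec R).presheaf.stalk x) ((T (R := R) E).presheaf.stalk x) := by
  let : Algebra R ((Spec R).presheaf.stalk x) := (alpha x).toAlgebra
  let : Module R ((T (R := R) E).presheaf.stalk x) := Module.compHom _ (alpha x)
  have : IsScalarTower R ((Spec R).presheaf.stalk x) ((T (R := R) E).presheaf.stalk x) :=
    IsScalarTower.of_algebraMap_smul fun _ _ => rfl
  have := isLocalization_alpha x
  let g : E →ₗ[R] ((T (R := R) E).presheaf.stalk x) :=
    { toFun := st E x
      map_add' := fun a b => map_add _ a b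
      map_smul' := fun r a => LinearMap.map_smul (st E x) r a }
  have hg : Function.Bijective g := bijective_st E x h1
  have h2 : Module.Injective R ((T (R := R) E).presheaf.stalk x) :=
    Groth.Agent.Localalg.InjHull.injective_of_equiv hE (LinearEquiv.ofBijective g hg).symm
  exact injective_of_isLocalization (px x).primeCompl _ h2

/-- The canonical morphism from `E^~` to the skyscraper of its stalk. -/
noncomputable def eta : T (R := R) E ⟶ sky x ((T (R := R) E).presheaf.stalk x) :=
  toSky LinearMap.id

lemma eta_app (U : (Spec R).Opens) (s : Γ(T (R := R) E, U)) (h : PLift (x ∈ U)) :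
    ((eta E x).app U s : Sec x ((T (R := R) E).presheaf.stalk x) U) h =
      (T (R := R) E).presheaf.germ U x h.down s :=
  toSky_app_apply _ U s h

lemma exists_basic (U : (Spec R).Opens) (y : Spec R) (hy : y ∈ U) :
    ∃ f : R, y ∈ D f ∧ D f ≤ U := by
  obtain ⟨_, ⟨_, ⟨f, rfl⟩, rfl⟩, hyf, hfU⟩ :=
    PrimeSpectrum.isBasis_basic_opens.exists_subset_of_mem_open hy U.2
  exact ⟨f, hyf, hfU⟩

open Groth.Agent.Ega1.SubSheaf in
theorem isIso_eta (h1 : ∀ f ∉ px x, Function.Bijective (fun e : E => f • e))
    (h2 : ∀ f ∈ px x, ∀ e : E, ∃ n : ℕ, f ^ n • e = 0) : IsIso (eta (R := R) E x) := by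
  have hm : Mono (eta (R := R) E x) := by
    rw [Groth.Agent.Ega1.SubSheaf.mono_iff_injective]
    intro U s t hst
    have key : ∀ hx : x ∈ U, (T (R := R) E).presheaf.germ U x hx s =
        (T (R := R) E).presheaf.germ U x hx t := by
      intro hx
      rw [← eta_app E x U s ⟨hx⟩, ← eta_app E x U t ⟨hx⟩]
      exact congrFun (hst : ((eta E x).app U s : Sec x _ U) = _) ⟨hx⟩
    refine section_ext _ s t fun y hy => ?_
    obtain ⟨f, hyf, hfU⟩ := exists_basic U y hy
    refine ⟨D f, hfU, hyf, ?_⟩
    by_cases hf : f ∈ px x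
    · rw [eq_zero_of_torsion E f (h2 f hf) (res _ hfU s),
        eq_zero_of_torsion E f (h2 f hf) (res _ hfU t)]
    · obtain ⟨a, ha⟩ := (bijective_toOpenL E x h1 f hf).2 (res _ hfU s)
      obtain ⟨b, hb⟩ := (bijective_toOpenL E x h1 f hf).2 (res _ hfU t)
      have hxf : x ∈ D f := hf
      have hab : st E x a = st E x b := by
        rw [← germ_toOpenL E x (D f) hxf, ← germ_toOpenL E x (D f) hxf, ha, hb]
        refine Eq.trans ?_ ((key (hfU hxf)).trans ?_)
        · exact TopCat.Presheaf.germ_res_apply (T (R := R) E).presheaf (homOfLE hfU) x hxf s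
        · exact (TopCat.Presheaf.germ_res_apply (T (R := R) E).presheaf (homOfLE hfU) x hxf t).symm
      rw [← ha, ← hb, (bijective_st E x h1).1 hab]
  have he : Epi (eta (R := R) E x) := by
    refine Groth.Agent.PerfB.ModExact.epi_of_locally_surjective _ fun U t y hy => ?_
    obtain ⟨f, hyf, hfU⟩ := exists_basic U y hy
    by_cases hxf : x ∈ D f
    · obtain ⟨e, he⟩ := (bijective_st E x h1).2
        ((t : Sec x ((T (R := R) E).presheaf.stalk x) U) ⟨hfU hxf⟩)
      refine ⟨D f, hfU, hyf, toOpenL E (D f) e, ?_⟩
      refine (funext fun h => ?_ : ((eta E x).app (D f) (toOpenL E (D f) e) : Sec x _ (D f)) = _)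
      rw [eta_app, germ_toOpenL]
      exact he
    · refine ⟨D f, hfU, hyf, 0, ?_⟩
      refine (funext fun h => absurd h.down hxf : ((eta E x).app (D f) 0 : Sec x _ (D f)) = _)
  exact isIso_of_mono_of_epi _

/-- `E^~` is injective for `E` indecomposable injective over a Noetherian ring. -/
theorem injective_of_indecomposable [IsNoetherianRing R] (hE : InjHull.IsIndecomposable R E)
    (hinj : Module.Injective R E) : Injective (T (R := R) E) := by
  obtain ⟨p, hp, h1, h2⟩ := K48.IndecAlg.exists_prime hE hinj
  let x : Spec R := (⟨p, hp⟩ : PrimeSpectrum R)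
  have := isIso_eta (R := R) E x h1 h2
  have := K48.SkyHull.injective_sky x _ (injective_stalk (R := R) E x hinj h1)
  exact Injective.of_iso (asIso (eta (R := R) E x)).symm inferInstance

end K48.TildeIndec
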