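import Groth.Agent.Coherent.K48.IndepZorn
import Groth.Agent.Sga5.SubElt
import Groth.Agent.Sga5.NoethObj
import Groth.Agent.Cohder.SubobjLattice

/-!
# Indecomposable injective subobjects of injective objects
-/

set_option autoImplicit false

universe w v u

namespace K48.UniformSub

open CategoryTheory Category Limits ZeroObject Groth.Agent.Sga5.SubElt

attribute [local instance] IsFiltered.isConnected

variable {C : Type u} [Category.{v} C] [Abelian C]

section Detect

variable {ν : Type*} (G : ν → C)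
  (hG : ∀ {A X : C} (p : A ⟶ X) [Mono p], (∀ (i : ν) (g : G i ⟶ X), ∃ t, t ≫ p = g) → IsIso p)

include hG in
/-- A subobject is zero if no nonzero map from a generator factors through it. -/
lemma eq_bot_of_forall {X : C} (S : Subobject X) (h : ∀ i (g : G i ⟶ X), S.Factors g → g = 0) :
    S = ⊥ := by
  have h1 : Mono (0 : (S : C) ⟶ S) := IndepZorn.mono_of_forall G hG _ fun i g _ => by
    have h2 : S.Factors (g ≫ S.arrow) := Subobject.factors_comp_arrow g
    rw [← cancel_mono S.arrow, h i _ h2, zero_comp]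
  have h3 : (𝟙 (S : C)) = 0 := by rw [← cancel_mono (0 : (S : C) ⟶ S), comp_zero, comp_zero]
  rw [eq_iff]
  intro T x
  rw [bot_factors_iff]
  constructor
  · intro hx
    rw [← Subobject.factorThru_arrow S x hx, ← comp_id (S.factorThru x hx), h3, comp_zero, zero_comp]
  · rintro rfl
    exact factors_zero S

variable [IsGrothendieckAbelian.{w} C]

/-- A morphism from a Noetherian object factoring through a directed supremum factors through one
of the terms. -/
lemma exists_factors {X Y : C} [IsNoetherianObject Y] (c : Set (Subobject X)) (hne : c.Nonempty)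
    (hc : DirectedOn (· ≤ ·) c) (g : Y ⟶ X) (hg : (sSup c).Factors g) :
    ∃ D ∈ c, D.Factors g := by
  let e := equivShrink.{w} (Subobject X)
  let J : Type w := {s : Shrink.{w} (Subobject X) // e.symm s ∈ c}
  let _ : Preorder J := Preorder.lift (fun s => e.symm s.1)
  have hJ : IsDirectedOrder J := ⟨fun a b => by
    obtain ⟨d, hd, h1, h2⟩ := hc _ a.2 _ b.2
    refine ⟨⟨e d, by rwa [Equiv.symm_apply_apply]⟩, ?_, ?_⟩
    · change e.symm a.1 ≤ e.symm (e d)
      rwa [Equiv.symm_apply_apply]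
    · change e.symm b.1 ≤ e.symm (e d)
      rwa [Equiv.symm_apply_apply]⟩
  have hJn : Nonempty J := by
    obtain ⟨d, hd⟩ := hne
    exact ⟨⟨e d, by rwa [Equiv.symm_apply_apply]⟩⟩
  let F : J ⥤ MonoOver X :=
    { obj := fun j => MonoOver.mk (e.symm j.1).arrow
      map := fun {j j'} f => MonoOver.homMk
        (Subobject.ofLE _ _ (show j ≤ j' from leOfHom f)) }
  let cc : Cocone (F ⋙ MonoOver.forget _) :=
    { pt := Over.mk (sSup c).arrow
      ι :=
        { app := fun j => Over.homMk (Subobject.ofLE _ _ (le_sSup j.2))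
          naturality := fun j j' f => by
            apply Over.OverMorphism.ext
            change Subobject.ofLE _ _ _ ≫ Subobject.ofLE _ _ _ = Subobject.ofLE _ _ _ ≫ 𝟙 _
            rw [comp_id, Subobject.ofLE_comp_ofLE] } }
  have hmono : Mono cc.pt.hom := by dsimp [cc]; infer_instance
  have hcc : IsColimit ((Over.forget _).mapCocone cc) := by
    apply IsGrothendieckAbelian.isColimitMapCoconeOfSubobjectMkEqISup F cc
    dsimp [cc, F]
    simp only [Subobject.mk_arrow]
    apply le_antisymm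
    · refine sSup_le fun d hd => ?_
      refine le_trans ?_ (le_iSup _ (⟨e d, by rwa [Equiv.symm_apply_apply]⟩ : J))
      dsimp
      rw [Equiv.symm_apply_apply]
    · exact iSup_le fun j => le_sSup j.2
  have hm : ∀ (j j' : J) (φ : j ⟶ j'),
      Mono (((F ⋙ MonoOver.forget X) ⋙ Over.forget X).map φ) := by
    intro j j' φ
    change Mono (Subobject.ofLE _ _ _)
    infer_instance
  obtain ⟨j, y, hy⟩ := NoethInj.exists_factor hcc ((sSup c).factorThru g hg)
  refine ⟨e.symm j.1, j.2, ?_⟩
  have h1 : g = (show Y ⟶ ((e.symm j.1 : Subobject X) : C) from y) ≫ (e.symm j.1).arrow := by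
    have h2 : (sSup c).factorThru g hg =
        (show Y ⟶ ((e.symm j.1 : Subobject X) : C) from y) ≫ Subobject.ofLE _ _ (le_sSup j.2) := hy
    rw [← Subobject.factorThru_arrow (sSup c) g hg, h2, assoc, Subobject.ofLE_arrow]
  rw [h1]
  exact Subobject.factors_comp_arrow _

include hG in
/-- There are maximal subobjects with zero intersection with a given one. -/
lemma exists_maximal_disjoint [∀ i, IsNoetherianObject (G i)] {X : C} (P D₀ : Subobject X)
    (h : D₀ ⊓ P = ⊥) :
    ∃ D : Subobject X, D₀ ≤ D ∧ D ⊓ P = ⊥ ∧ ∀ D' : Subobject X, D ≤ D' → D' ⊓ P = ⊥ → D' ≤ D := by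
  obtain ⟨D, hD, hm⟩ := zorn_le_nonempty₀ {D : Subobject X | D ⊓ P = ⊥} (by
    intro c hc hchain y hy
    refine ⟨sSup c, ?_, fun z hz => le_sSup hz⟩
    refine eq_bot_of_forall G hG _ fun i g hg => ?_
    rw [inf_factors_iff] at hg
    obtain ⟨D, hDc, hD⟩ := exists_factors.{w} c ⟨y, hy⟩ hchain.directedOn g hg.1
    have h1 : (D ⊓ P).Factors g := (inf_factors_iff _ _ _).mpr ⟨hD, hg.2⟩
    have h2 : D ⊓ P = ⊥ := hc hDc
    rwa [h2, bot_factors_iff] at h1) D₀ h
  exact ⟨D, hD, hm.prop, fun D' h1 h2 => hm.le_of_ge h2 h1⟩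

include hG in
/-- A nonzero object has a nonzero uniform subobject. -/
lemma exists_uniform [∀ i, IsNoetherianObject (G i)] {X : C} (hX : ¬ IsZero X) :
    ∃ P : Subobject X, P ≠ ⊥ ∧ ∀ A B : Subobject X, A ≤ P → B ≤ P → A ≠ ⊥ → B ≠ ⊥ → A ⊓ B ≠ ⊥ := by
  obtain ⟨i, g, hg⟩ : ∃ (i : ν) (g : G i ⟶ X), g ≠ 0 := by
    by_contra hcon
    push Not at hcon
    apply hX
    have h1 : Mono (0 : X ⟶ X) := IndepZorn.mono_of_forall G hG _ fun i g _ => hcon i g
    rw [IsZero.iff_id_eq_zero, ← cancel_mono (0 : X ⟶ X), comp_zero, comp_zero]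
  let N : Subobject X := imageSubobject g
  have hN : IsNoetherianObject (N : C) := Groth.Agent.Sga5.NoethObj.isNoetherianObject_image g
  have hN0 : N ≠ ⊥ := by
    intro h
    apply hg
    have h1 : N.Factors g := (image_le_iff g N).mp le_rfl
    rwa [h, bot_factors_iff] at h1
  let 𝒦 : Set (Subobject X) := {K | K ≤ N ∧ ∃ P ≤ N, P ≠ ⊥ ∧ K ⊓ P = ⊥}
  have hne : 𝒦.Nonempty := ⟨⊥, bot_le, N, le_rfl, hN0, bot_inf_eq _⟩
  obtain ⟨_, ⟨K, ⟨hKN, P, hPN, hP0, hKP⟩, rfl⟩, hmax⟩ := WellFounded.has_min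
    (r := fun a b : Subobject (N : C) => b < a) wellFounded_gt
    ((Subobject.pullback N.arrow).obj '' 𝒦) (hne.image _)
  refine ⟨P, hP0, fun A B hAP hBP hA hB hAB => ?_⟩
  have hmod := Groth.Agent.Cohder.SubobjLattice.isModularLattice X
  have h1 : (K ⊔ A) ⊓ B = ⊥ := by
    rw [eq_bot_iff]
    have h2 : (K ⊔ A) ⊓ P ≤ A := by
      calc (K ⊔ A) ⊓ P = (A ⊔ K) ⊓ P := by rw [sup_comm]
        _ ≤ A ⊔ K ⊓ P := (sup_inf_assoc_of_le K hAP).le
        _ = A := by rw [hKP, sup_bot_eq]
    calc (K ⊔ A) ⊓ B ≤ ((K ⊔ A) ⊓ P) ⊓ B := le_inf (le_inf inf_le_left (inf_le_right.trans hBP)) inf_le_right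
      _ ≤ A ⊓ B := inf_le_inf_right _ h2
      _ = ⊥ := hAB
  have h3 : K ⊔ A ∈ 𝒦 := ⟨sup_le hKN (hAP.trans hPN), B, hBP.trans hPN, hB, h1⟩
  have h4 := hmax _ ⟨_, h3, rfl⟩
  have h5 : (Subobject.pullback N.arrow).obj K = (Subobject.pullback N.arrow).obj (K ⊔ A) := by
    by_contra h5
    exact h4 (lt_of_le_of_ne (pullback_mono _ le_sup_left) h5)
  apply hA
  rw [eq_bot_iff, ← hKP]
  refine le_inf ?_ hAP
  rw [le_iff]
  intro T x hx
  obtain ⟨y, rfl⟩ : ∃ y : T ⟶ (N : C), y ≫ N.arrow = x :=
    ⟨N.factorThru x (Subobject.factors_of_le x (hAP.trans hPN) hx), Subobject.factorThru_arrow _ _ _⟩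
  rw [← pb_factors_iff, h5, pb_factors_iff]
  exact Subobject.factors_of_le _ le_sup_right hx

end Detect

/-- Indecomposability. -/
def Indec (A : C) : Prop :=
  ¬ IsZero A ∧ ∀ A₁ A₂ : C, Nonempty (A ≅ A₁ ⊞ A₂) → IsZero A₁ ∨ IsZero A₂

section Complement

variable {X : C} [Injective X] {P D E : Subobject X} (hPE : P ≤ E)
  (hDP : D ⊓ P = ⊥) (hDmax : ∀ D' : Subobject X, D ≤ D' → D' ⊓ P = ⊥ → D' ≤ D)
  (hED : E ⊓ D = ⊥) (hEmax : ∀ E' : Subobject X, E ≤ E' → E' ⊓ D = ⊥ → E' ≤ E)

include hPE hDmax hED hEmax in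
/-- Complements in injective objects are direct summands. -/
lemma exists_retraction : ∃ r : X ⟶ (E : C), E.arrow ≫ r = 𝟙 _ := by
  let q : X ⟶ cokernel D.arrow := cokernel.π D.arrow
  have hq : ∀ {T : C} (x : T ⟶ X), x ≫ q = 0 ↔ D.Factors x := fun x =>
    (factors_iff_cokernel D x).symm
  have he : Mono (E.arrow ≫ q) := by
    refine Preadditive.mono_of_cancel_zero _ fun {Z} g hg => ?_
    rw [← assoc, hq] at hg
    have h1 : (E ⊓ D).Factors (g ≫ E.arrow) :=
      (inf_factors_iff _ _ _).mpr ⟨Subobject.factors_comp_arrow g, hg⟩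
    rw [hED, bot_factors_iff] at h1
    rw [← cancel_mono E.arrow, h1, zero_comp]
  let φ : cokernel D.arrow ⟶ X := Injective.factorThru E.arrow (E.arrow ≫ q)
  have hφ : (E.arrow ≫ q) ≫ φ = E.arrow := Injective.comp_factorThru _ _
  have hφm : Mono φ := by
    -- the kernel of `q ≫ φ` is `D`
    have h1 : kernelSubobject (q ≫ φ) ≤ D := by
      apply hDmax
      · rw [le_iff]
        intro T x hx
        rw [kernel_factors_iff, ← assoc, (hq x).mpr hx, zero_comp]
      · rw [eq_bot_iff, le_iff]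
        intro T x hx
        rw [inf_factors_iff, kernel_factors_iff] at hx
        rw [bot_factors_iff]
        have h2 : E.Factors x := Subobject.factors_of_le x hPE hx.2
        have h3 : E.factorThru x h2 ≫ (E.arrow ≫ q) ≫ φ = x := by
          rw [hφ, Subobject.factorThru_arrow]
        rw [← h3]
        have h4 := hx.1
        rw [← Subobject.factorThru_arrow E x h2] at h4
        simpa only [assoc] using h4
    refine Preadditive.mono_of_cancel_zero _ fun {Z} g hg => ?_
    obtain ⟨T', e, he', x, hx⟩ := lift_of_epi q g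
    have h5 : D.Factors x := by
      apply Subobject.factors_of_le x h1
      rw [kernel_factors_iff, ← assoc, ← hx, assoc, hg, comp_zero]
    rw [← cancel_epi e, hx, (hq x).mpr h5, comp_zero]
  -- the image of `φ` is `E`
  have h6 : Subobject.mk φ ≤ E := by
    apply hEmax
    · rw [le_iff]
      intro T x hx
      rw [mk_factors_iff]
      exact ⟨E.factorThru x hx ≫ E.arrow ≫ q, by rw [assoc, hφ, Subobject.factorThru_arrow]⟩
    · rw [eq_bot_iff, le_iff]
      intro T x hx
      rw [inf_factors_iff, mk_factors_iff] at hx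
      rw [bot_factors_iff]
      obtain ⟨⟨y, hy⟩, hxD⟩ := hx
      -- the preimage of `D` under `q ≫ φ`
      have h7 : (Subobject.pullback (q ≫ φ)).obj D ≤ D := by
        apply hDmax
        · rw [le_iff]
          intro T x hx
          rw [pb_factors_iff, ← assoc, (hq x).mpr hx, zero_comp]
          exact factors_zero D
        · rw [eq_bot_iff, le_iff]
          intro T x hx
          rw [inf_factors_iff, pb_factors_iff] at hx
          have h2 : E.Factors x := Subobject.factors_of_le x hPE hx.2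
          have h3 : x ≫ q ≫ φ = x := by
            conv_rhs => rw [← Subobject.factorThru_arrow E x h2, ← hφ]
            conv_lhs => rw [← Subobject.factorThru_arrow E x h2]
            simp only [assoc]
          rw [h3] at hx
          have h4 : (E ⊓ D).Factors x := (inf_factors_iff _ _ _).mpr ⟨h2, hx.1⟩
          rwa [hED] at h4
      obtain ⟨T', e, he', z, hz⟩ := lift_of_epi q y
      have h8 : D.Factors z := by
        apply Subobject.factors_of_le z h7
        rw [pb_factors_iff, ← assoc, ← hz, assoc, hy]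
        exact factors_comp D e hxD
      rw [← cancel_epi e, ← hy, ← assoc, hz, (hq z).mpr h8, zero_comp, comp_zero]
  let ψ : cokernel D.arrow ⟶ (E : C) := E.factorThru φ (Subobject.factors_of_le φ h6
    ((mk_factors_iff _ _).mpr ⟨𝟙 _, id_comp _⟩))
  have hψ : ψ ≫ E.arrow = φ := Subobject.factorThru_arrow _ _ _
  refine ⟨q ≫ ψ, ?_⟩
  rw [← cancel_mono E.arrow, assoc, assoc, hψ, id_comp, ← assoc, hφ]

end Complement

end K48.UniformSub
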