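import Mathlib.CategoryTheory.Abelian.GrothendieckCategory.EnoughInjectives

/-!
# A one-step criterion for injectivity in a Grothendieck abelian category

If, for every proper subobject `A` of any object `X`, there is a strictly larger subobject `A'` such
that every morphism `A ⟶ F` extends to `A'`, then `F` is injective (Zorn's lemma / transfinite
iteration, following Mathlib's `IsGrothendieckAbelian.generatingMonomorphisms`).

Consequence: Baer's criterion for a detecting family of objects.
-/

set_option autoImplicit false

universe w v u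

namespace K48.ZornInj

open CategoryTheory Category Limits ZeroObject

variable {C : Type u} [Category.{v} C] [Abelian C]

/-- `A'` is larger than `A`, and every morphism `A ⟶ F` extends to `A'`. -/
def Ext (F : C) : MorphismProperty C := fun A B i =>
  Mono i ∧ ∀ φ : A ⟶ F, ∃ ψ : B ⟶ F, i ≫ ψ = φ

variable (F : C)

/-- The step hypothesis: every proper subobject can be enlarged with extension of morphisms to `F`. -/
def Step (X : C) : Prop :=
  ∀ A : Subobject X, A ≠ ⊤ → ∃ (A' : Subobject X) (h : A < A'), Ext F (Subobject.ofLE A A' h.le)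

variable {F} {X : C} (hF : Step F X)

open scoped Classical in
/-- A strictly larger subobject, if `A ≠ ⊤`. -/
noncomputable def larger (A : Subobject X) : Subobject X :=
  if hA : A = ⊤ then ⊤ else (hF A hA).choose

@[simp]
lemma larger_top : larger hF (⊤ : Subobject X) = ⊤ := dif_pos rfl

lemma lt_larger (A : Subobject X) (hA : A ≠ ⊤) : A < larger hF A := by
  dsimp only [larger]
  rw [dif_neg hA]
  exact (hF A hA).choose_spec.choose

lemma le_larger (A : Subobject X) : A ≤ larger hF A := by
  by_cases hA : A = ⊤
  · subst hA
    simp only [larger_top, le_refl]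
  · exact (lt_larger hF A hA).le

lemma ext_of_isIso {A B : C} (i : A ⟶ B) [IsIso i] : Ext F i :=
  ⟨inferInstance, fun φ => ⟨inv i ≫ φ, by simp⟩⟩

lemma ext_ofLE_of_eq {A A' A'' : Subobject X} (h : A ≤ A') (h' : A ≤ A'') (e : A' = A'')
    (H : Ext F (Subobject.ofLE A A' h)) : Ext F (Subobject.ofLE A A'' h') := by
  subst e
  exact H

lemma ext_ofLE_larger (A : Subobject X) : Ext F (Subobject.ofLE _ _ (le_larger hF A)) := by
  by_cases hA : A = ⊤
  · subst hA
    exact ext_ofLE_of_eq le_rfl _ (larger_top hF).symm
      (by
        have : IsIso (Subobject.ofLE (⊤ : Subobject X) ⊤ le_rfl) := by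
          rw [Subobject.ofLE_refl]
          infer_instance
        exact ext_of_isIso _)
  · refine ext_ofLE_of_eq (hF A hA).choose_spec.choose.le _ ?_
      (hF A hA).choose_spec.choose_spec
    simp only [larger, dif_neg hA]

variable [IsGrothendieckAbelian.{w} C]

include hF in
lemma top_mem_range (A₀ : Subobject X) {J : Type w} [LinearOrder J] [OrderBot J] [SuccOrder J]
    [WellFoundedLT J] (hJ : HasCardinalLT (Subobject X) (Cardinal.mk J)) :
    ∃ (j : J), transfiniteIterate (larger hF) j A₀ = ⊤ :=
  top_mem_range_transfiniteIterate (larger hF) A₀ (lt_larger hF) (by simp)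
    (fun h ↦ by simpa [hasCardinalLT_iff_cardinal_mk_lt] using hJ.of_injective _ h)

lemma exists_ordinal (A₀ : Subobject X) :
    ∃ (o : Ordinal.{w}) (j : o.ToType), transfiniteIterate (larger hF) j A₀ = ⊤ := by
  let κ := Order.succ (Cardinal.mk (Shrink.{w} (Subobject X)))
  have : Nonempty κ.ord.ToType := by simp [κ]
  have := WellFoundedLT.toOrderBot κ.ord.ToType
  exact ⟨κ.ord, top_mem_range hF A₀ (lt_of_lt_of_le (Order.lt_succ _) (by simp [κ]))⟩

section

variable (A₀ : Subobject X) (J : Type w) [LinearOrder J] [OrderBot J] [SuccOrder J]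
  [WellFoundedLT J]

/-- The transfinite iteration, as a functor to `MonoOver X`. -/
@[simps]
noncomputable def functorToMonoOver : J ⥤ MonoOver X where
  obj j := MonoOver.mk (transfiniteIterate (larger hF) j A₀).arrow
  map {j j'} f := MonoOver.homMk (Subobject.ofLE _ _
      (monotone_transfiniteIterate _ _ (le_larger hF) (leOfHom f)))

/-- The functor `J ⥤ C` induced by `functorToMonoOver`. -/
noncomputable abbrev functor : J ⥤ C :=
  functorToMonoOver hF A₀ J ⋙ MonoOver.forget _ ⋙ Over.forget _

set_option backward.defeqAttrib.useBackward true in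
instance : (functor hF A₀ J).IsWellOrderContinuous where
  nonempty_isColimit m hm := ⟨by
    have := hm.nonempty_Iio.to_subtype
    let c := (Set.principalSegIio m).cocone (functorToMonoOver hF A₀ J ⋙ MonoOver.forget _)
    have : Mono c.pt.hom := by dsimp [c]; infer_instance
    apply IsGrothendieckAbelian.isColimitMapCoconeOfSubobjectMkEqISup
      ((Set.principalSegIio m).monotone.functor ⋙ functorToMonoOver hF A₀ J) c
    dsimp [c]
    simp only [Subobject.mk_arrow]
    exact transfiniteIterate_limit (larger hF) A₀ m hm⟩

set_option backward.isDefEq.respectTransparency.types false in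
set_option backward.defeqAttrib.useBackward true in
variable {J} in
/-- For any `j`, the map `(functor hF A₀ J).map (homOfLE bot_le : ⊥ ⟶ j)` is a transfinite
composition of morphisms in `Ext F`. -/
noncomputable def transfiniteCompositionOfShapeMapFromBot (j : J) :
    (Ext F).TransfiniteCompositionOfShape (Set.Iic j)
    ((functor hF A₀ J).map (homOfLE bot_le : ⊥ ⟶ j)) where
  F := (Set.initialSegIic j).monotone.functor ⋙ functor hF A₀ J
  isoBot := Iso.refl _
  incl :=
    { app k := (functor hF A₀ J).map (homOfLE k.2)
      naturality k k' h := by simp [MonoOver.forget] }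
  isColimit := colimitOfDiagramTerminal isTerminalTop _
  map_mem k hk := by
    dsimp [MonoOver.forget]
    convert! ext_ofLE_larger hF (transfiniteIterate (larger hF) k.1 A₀) using 2
    all_goals
      rw [Set.Iic.succ_eq_of_not_isMax hk,
        transfiniteIterate_succ _ _ _ (Set.not_isMax_coe _ hk)]

end

lemma rlp_zero : (Ext F).rlp (0 : F ⟶ 0) := by
  intro A B i hi
  refine ⟨fun {f g} sq => ?_⟩
  obtain ⟨ψ, hψ⟩ := hi.2 f
  exact ⟨⟨{ l := ψ, fac_left := hψ, fac_right := (isZero_zero C).eq_of_tgt _ _ }⟩⟩

set_option backward.defeqAttrib.useBackward true in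
set_option backward.isDefEq.respectTransparency false in
/-- If the iteration reaches `⊤`, the monomorphism `f` is a transfinite composition of morphisms
in `Ext F`. -/
noncomputable def transfiniteCompositionOfShapeOfEqTop {A : C} (f : A ⟶ X) [Mono f]
    {J : Type w} [LinearOrder J] [OrderBot J] [SuccOrder J] [WellFoundedLT J] {j : J}
    (hj : transfiniteIterate (larger hF) j (Subobject.mk f) = ⊤) :
    (Ext F).TransfiniteCompositionOfShape (Set.Iic j) f := by
  let t := transfiniteIterate (larger hF) j (Subobject.mk f)
  have := (Subobject.isIso_arrow_iff_eq_top t).2 hj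
  apply (transfiniteCompositionOfShapeMapFromBot hF (Subobject.mk f) j).ofArrowIso
  refine Arrow.isoMk ((Subobject.isoOfEq _ _ (transfiniteIterate_bot _ _) ≪≫
    Subobject.underlyingIso f)) (asIso t.arrow) ?_
  dsimp [MonoOver.forget]
  rw [assoc, Subobject.underlyingIso_hom_comp_eq_mk, Subobject.ofLE_arrow,
    Subobject.ofLE_arrow]

include hF in
/-- Morphisms extend along any subobject, if every proper subobject can be enlarged with
extension of morphisms. -/
lemma exists_extension {A : C} (f : A ⟶ X) [Mono f] (φ : A ⟶ F) : ∃ ψ : X ⟶ F, f ≫ ψ = φ := by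
  obtain ⟨o, j, hj⟩ := exists_ordinal hF (Subobject.mk f)
  have : Nonempty o.ToType := ⟨j⟩
  have : OrderBot o.ToType := WellFoundedLT.toOrderBot _
  have h1 := MorphismProperty.transfiniteCompositionsOfShape_le_llp_rlp _ _ _
    (transfiniteCompositionOfShapeOfEqTop hF f hj).mem _ rlp_zero
  have sq : CommSq φ f (0 : F ⟶ 0) 0 := ⟨by simp⟩
  exact ⟨sq.lift, sq.fac_left⟩

/-- If every proper subobject of every object can be enlarged with extension of morphisms to `F`,
then `F` is injective. -/
theorem injective_of_step (F : C) (h : ∀ X : C, Step F X) : Injective F :=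
  ⟨fun {_ X} φ f _ => exists_extension (h X) f φ⟩

end K48.ZornInj
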