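import Groth.Agent.Coherent.K48.ZornInj

/-!
# Baer's criterion in a Grothendieck abelian category, for a family of test objects
-/

set_option autoImplicit false

universe w v u

namespace K48.ZornInj

open CategoryTheory Category Limits ZeroObject

variable {C : Type u} [Category.{v} C] [Abelian C]

/-- A form of the step hypothesis which is easier to check: for every proper subobject `p : A ⟶ X`
there is a morphism `g : G ⟶ X` not factoring through `p` such that all morphisms from the pullback
of `p` along `g` to `F` extend to `G`. -/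
theorem step_of_exists {F X : C}
    (h : ∀ {A : C} (p : A ⟶ X) [Mono p], ¬ IsIso p →
      ∃ (G : C) (g : G ⟶ X), (∀ t : G ⟶ A, t ≫ p ≠ g) ∧
        ∀ φ : pullback p g ⟶ F, ∃ ψ : G ⟶ F, pullback.snd p g ≫ ψ = φ) : Step F X := by
  intro A hA
  induction A using Subobject.ind with | _ f
  have hf : ¬ IsIso f := by simpa only [Subobject.isIso_iff_mk_eq_top] using hA
  obtain ⟨G, g, hg, hext⟩ := h f hf
  have hp' : Mono (pushout.desc f g pullback.condition :
      pushout (pullback.fst f g) (pullback.snd f g) ⟶ X) :=
    (IsPushout.of_hasPushout _ _).mono_of_isPullback_of_mono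
      (IsPullback.of_hasPullback f g) _ (pushout.inl_desc _ _ _) (pushout.inr_desc _ _ _)
  generalize hp'e : (pushout.desc f g pullback.condition :
      pushout (pullback.fst f g) (pullback.snd f g) ⟶ X) = p' at hp'
  generalize hie : pushout.inl (pullback.fst f g) (pullback.snd f g) = i
  have fac : i ≫ p' = f := by
    rw [← hie, ← hp'e, pushout.inl_desc]
  have hi' : ¬ IsIso i := by
    intro hi
    refine hg (pushout.inr (pullback.fst f g) (pullback.snd f g) ≫ inv i) ?_
    rw [assoc]
    have : inv i ≫ f = p' := by rw [IsIso.inv_comp_eq, fac]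
    rw [this, ← hp'e, pushout.inr_desc]
  refine ⟨Subobject.mk p', Subobject.mk_lt_mk_of_comm i fac hi', inferInstance, fun φ => ?_⟩
  obtain ⟨θ, hθ⟩ := hext (pullback.fst f g ≫ (Subobject.underlyingIso f).inv ≫ φ)
  refine ⟨(Subobject.underlyingIso p').hom ≫
    pushout.desc ((Subobject.underlyingIso f).inv ≫ φ) θ hθ.symm, ?_⟩
  have e : Subobject.ofLE (Subobject.mk f) (Subobject.mk p')
      (Subobject.mk_lt_mk_of_comm i fac hi').le ≫ (Subobject.underlyingIso p').hom =
      (Subobject.underlyingIso f).hom ≫ i := by
    simp only [← cancel_mono p', assoc, fac,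
      Subobject.underlyingIso_hom_comp_eq_mk, Subobject.ofLE_arrow]
  rw [reassoc_of% e, ← hie, pushout.inl_desc, Iso.hom_inv_id_assoc]

/-- Baer's criterion: `F` is injective if morphisms to `F` extend from subobjects of the members of a
family of objects detecting isomorphisms among monomorphisms. -/
theorem injective_of_baer [IsGrothendieckAbelian.{w} C] {ι : Type*} (G : ι → C)
    (hG : ∀ {A X : C} (p : A ⟶ X) [Mono p], (∀ (i : ι) (g : G i ⟶ X), ∃ t, t ≫ p = g) → IsIso p)
    (F : C) (hF : ∀ (i : ι) {K : C} (m : K ⟶ G i) [Mono m] (φ : K ⟶ F), ∃ ψ, m ≫ ψ = φ) :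
    Injective F := by
  refine injective_of_step.{w} F fun X => step_of_exists fun {A} p _ hp => ?_
  have := mt (hG p) hp
  push Not at this
  obtain ⟨i, g, hg⟩ := this
  exact ⟨G i, g, hg, fun φ => hF i (pullback.snd p g) φ⟩

end K48.ZornInj
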